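import Cfsg.Agent.SpShortPres.Kernel
import Cfsg.Agent.ShortPres.Main
import Cfsg.Agent.Classical.SympGroup

/-!
# `Sp(2m, F)` has a presentation with a bounded number of relations, `m ≥ 3`
-/

set_option autoImplicit false

namespace Cfsg.Agent.SpShortPres

open Matrix Cfsg.Agent.SL2Pres Cfsg.Agent.SLMult Cfsg.Agent.CurtisTitsA Cfsg.Agent.ShortPres
open Cfsg.Agent.Classical
open scoped MatrixGroups commutatorElement

universe u v

variable {F : Type u} [Field F] [Fintype F]

theorem sl_pair {n : ℕ} (hn : 2 ≤ n) :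
    ∃ a b : SpecialLinearGroup (Fin n) F, Subgroup.closure ({a, b} : Set _) = ⊤ := by
  rcases (show n = 2 ∨ n = 3 ∨ 4 ≤ n by omega) with rfl | rfl | h
  · exact sl_two_pair F
  · obtain ⟨a, g, h⟩ := Cfsg.Agent.RegGen.three_generate (F := F)
    exact ⟨_, _, h⟩
  · obtain ⟨d, rfl⟩ : ∃ d, n = d + 2 := ⟨n - 2, by omega⟩
    obtain ⟨u, -, h⟩ := (Cfsg.Agent.S2279.two_generate (F := F) d (by omega)).1
    exact ⟨_, _, h⟩

/-- The block on all but the first coordinate. -/
def tailMat {n : ℕ} (g : Matrix (Fin n) (Fin n) F) : Matrix (Fin (n + 1)) (Fin (n + 1)) F :=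
  Matrix.of fun r c =>
    Fin.cases (Fin.cases 1 (fun _ => 0) c) (fun r' => Fin.cases 0 (fun c' => g r' c') c) r

omit [Fintype F] in
theorem tailMat_det {n : ℕ} (g : Matrix (Fin n) (Fin n) F) : (tailMat g).det = g.det := by
  rw [det_succ_row_zero, Fin.sum_univ_succ]
  have h1 : (tailMat g).submatrix Fin.succ (0 : Fin (n + 1)).succAbove = g := by
    ext i j
    simp [tailMat]
  rw [h1]
  simp [tailMat]

/-- The complementary block as a homomorphism. -/
def tailHom {n : ℕ} : SpecialLinearGroup (Fin n) F →* SpecialLinearGroup (Fin (n + 1)) F where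
  toFun g := ⟨tailMat g.1, by rw [tailMat_det]; exact g.2⟩
  map_one' := Subtype.ext (by
    show tailMat (1 : SpecialLinearGroup (Fin n) F).1 = 1
    ext r c
    refine Fin.cases ?_ (fun r' => ?_) r <;> refine Fin.cases ?_ (fun c' => ?_) c <;>
      simp [tailMat, one_apply, Fin.succ_ne_zero, (Fin.succ_ne_zero _).symm])
  map_mul' g h := Subtype.ext (by
    show tailMat (g * h).1 = tailMat g.1 * tailMat h.1
    ext r c
    rw [Matrix.mul_apply, Fin.sum_univ_succ]
    refine Fin.cases ?_ (fun r' => ?_) r <;> refine Fin.cases ?_ (fun c' => ?_) c <;>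
      simp [tailMat, Matrix.mul_apply])

omit [Fintype F] in
theorem tailHom_surj {n : ℕ} {g : SpecialLinearGroup (Fin (n + 1)) F}
    (hc : g.1 *ᵥ Pi.single 0 1 = Pi.single 0 1) (hr : Pi.single 0 (1 : F) ᵥ* g.1 = Pi.single 0 1) :
    ∃ h, tailHom h = g := by
  have e : g.1 = tailMat (Matrix.of fun i j => g.1 i.succ j.succ) := by
    ext r c
    refine Fin.cases ?_ (fun r' => ?_) r <;> refine Fin.cases ?_ (fun c' => ?_) c
    · have := congrFun hc 0; simpa [tailMat] using this
    · have := congrFun hr c'.succ; simpa [tailMat, Fin.succ_ne_zero] using this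
    · have := congrFun hc r'.succ; simpa [tailMat, Fin.succ_ne_zero] using this
    · simp [tailMat]
  refine ⟨⟨Matrix.of fun i j => g.1 i.succ j.succ, ?_⟩, Subtype.ext e.symm⟩
  rw [← tailMat_det, ← e]
  exact g.2

variable {m : ℕ} [hm : Fact (3 ≤ m)] {P : Type v} [Group P]

theorem exists_stab_gens :
    ∃ a b : SpecialLinearGroup (Fin m) F,
      (∀ g ∈ ({a, b} : Set (SpecialLinearGroup (Fin m) F)),
        g.1 *ᵥ Pi.single (i0 m) 1 = Pi.single (i0 m) 1 ∧
          Pi.single (i0 m) (1 : F) ᵥ* g.1 = Pi.single (i0 m) 1) ∧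
      ∀ g : SpecialLinearGroup (Fin m) F, g.1 *ᵥ Pi.single (i0 m) 1 = Pi.single (i0 m) 1 →
        Pi.single (i0 m) (1 : F) ᵥ* g.1 = Pi.single (i0 m) 1 →
          g ∈ Subgroup.closure ({a, b} : Set (SpecialLinearGroup (Fin m) F)) := by
  obtain ⟨n, rfl⟩ : ∃ n, m = n + 1 := ⟨m - 1, by have := hm.out; omega⟩
  obtain ⟨a, b, hab⟩ := sl_pair (F := F) (n := n) (by have := hm.out; omega)
  have h0 : i0 (n + 1) = 0 := rfl
  have key : ∀ h : SpecialLinearGroup (Fin n) F,
      (tailHom h).1 *ᵥ Pi.single 0 1 = Pi.single 0 1 ∧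
        Pi.single 0 (1 : F) ᵥ* (tailHom h).1 = Pi.single 0 1 := by
    intro h
    show tailMat h.1 *ᵥ Pi.single 0 1 = Pi.single 0 1 ∧
        Pi.single 0 (1 : F) ᵥ* tailMat h.1 = Pi.single 0 1
    constructor <;> funext r <;> refine Fin.cases ?_ (fun r' => ?_) r <;>
      simp [tailMat, Fin.succ_ne_zero]
  refine ⟨tailHom a, tailHom b, ?_, fun g hc hr => ?_⟩
  · rw [h0]
    rintro g (rfl | rfl) <;> exact key _
  · rw [h0] at hc hr
    obtain ⟨h, rfl⟩ := tailHom_surj hc hr
    rw [← Set.image_pair tailHom, ← MonoidHom.map_closure, hab]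
    exact ⟨h, Subgroup.mem_top h, rfl⟩

theorem commute_iff_word {G : Type*} [Group G] (x y : G) :
    Commute x y ↔ x * y * x⁻¹ * y⁻¹ = 1 := by
  rw [← commutatorElement_def, commutatorElement_eq_one_iff_commute]

/-- One half of the seed relations as words. -/
noncomputable def halfRel (ν : Fˣ) (φ : SpecialLinearGroup (Fin m) F →* P) (ψ : SL(2, F) →* P) :
    Finset P := by
  classical
  exact {φ (tx (i0 m) (i1 m) 1) * ψ (uM 1) * (φ (tx (i0 m) (i1 m) 1))⁻¹ * (ψ (uM 1))⁻¹,
    ψ (dM ν) * φ (tx (i1 m) (i0 m) 1) * (ψ (dM ν))⁻¹ *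
      (φ (tx (i1 m) (i0 m) ((ν⁻¹ : Fˣ) : F)))⁻¹,
    φ (tx (i1 m) (i0 m) 1) * ψ (uM 1) * (φ (tx (i1 m) (i0 m) 1))⁻¹ *
      (ψ (uM 1) * (ψ wM * φ (tx (i1 m) (i0 m) (-1)) * (ψ wM)⁻¹) *
        (φ s01 * ψ (uM 1) * (φ s01)⁻¹))⁻¹}

theorem card_halfRel (ν : Fˣ) (φ : SpecialLinearGroup (Fin m) F →* P) (ψ : SL(2, F) →* P) :
    (halfRel ν φ ψ).card ≤ 3 := by
  classical
  unfold halfRel
  exact Finset.card_le_three

theorem half_iff {Q : Type*} [Group Q] (f : P →* Q) (ν : Fˣ)
    (φ : SpecialLinearGroup (Fin m) F →* P) (ψ : SL(2, F) →* P) :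
    Half ν (f.comp φ) (f.comp ψ) ↔ ∀ z ∈ halfRel ν φ ψ, f z = 1 := by
  constructor
  · intro h z hz
    simp only [halfRel, Finset.mem_insert, Finset.mem_singleton] at hz
    have hb := (commute_iff_word _ _).1 h.b
    have hf := mul_inv_eq_one.2 h.f
    have he := mul_inv_eq_one.2 h.e
    simp only [MonoidHom.comp_apply, ← map_mul, ← map_inv] at hb hf he
    rcases hz with rfl | rfl | rfl
    · simpa only [← map_mul, ← map_inv] using hb
    · simpa only [← map_mul, ← map_inv] using hf
    · simpa only [← map_mul, ← map_inv] using he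
  · intro h
    refine ⟨?_, ?_, ?_⟩
    · rw [commute_iff_word]
      simp only [MonoidHom.comp_apply, ← map_mul, ← map_inv]
      exact h _ (by simp [halfRel])
    · rw [← mul_inv_eq_one]
      simp only [MonoidHom.comp_apply, ← map_mul, ← map_inv]
      exact h _ (by simp [halfRel])
    · rw [← mul_inv_eq_one]
      simp only [MonoidHom.comp_apply, ← map_mul, ← map_inv]
      exact h _ (by simp [halfRel])

theorem transvection_conj (g : Sp F m) (v : Fin m ⊕ Fin m → F) (c : F) :
    g * ⟨_, sympTransvection_mem v c⟩ * g⁻¹ = ⟨_, sympTransvection_mem (g.1 *ᵥ v) c⟩ := by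
  apply (spEquiv m F).injective
  rw [map_mul, map_mul, map_inv, spEquiv_transvection, spEquiv_transvection, Alt.conj_tvE]
  rfl

/-- The symplectic group is generated by the two factors. -/
theorem model_range :
    (diagBlock (F := F) (m := m)).range ⊔ (psi0 (F := F) (m := m)).range = ⊤ := by
  obtain ⟨ν, hν⟩ := exists_gen_unit F
  set φ := diagBlock (F := F) (m := m)
  set ψ := psi0 (F := F) (m := m)
  have S := seed_model (m := m) hν
  set H := φ.range ⊔ ψ.range
  have hφ : ∀ g, φ g ∈ H := fun g => Subgroup.mem_sup_left ⟨g, rfl⟩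
  have hψ : ∀ s, ψ s ∈ H := fun s => Subgroup.mem_sup_right ⟨s, rfl⟩
  have hL : ∀ v t, L φ ψ v t ∈ H := fun v t => by
    by_cases hv : v = 0
    · rw [hv, L_zero_vec]; exact one_mem H
    obtain ⟨g, hg⟩ := move hv
    rw [S.L_eq hg]
    exact mul_mem (mul_mem (hφ g) (hψ _)) (inv_mem (hφ g))
  have hK : ∀ f, levAll f ∈ H := by
    intro f
    have e := (model_id (F := F) (m := m)).Kpi_lev S f
    rw [MonoidHom.id_apply] at e
    rw [← e]
    have : S.Kpi.range ≤ H := by
      refine (MonoidHom.noncommPiCoprod_range (hcomm := fun _ _ hij s t => S.K_commute hij s t)).le.trans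
        (iSup_le fun i => ?_)
      rintro _ ⟨s, rfl⟩
      rw [S.K_apply]
      exact mul_mem (mul_mem (hφ _) (hψ _)) (inv_mem (hφ _))
    exact this ⟨f, rfl⟩
  have hJ : SymplecticGroup.symJ (Fin m) F ∈ H := by
    have e : SymplecticGroup.symJ (Fin m) F = levAll fun _ => wM⁻¹ := by
      apply Subtype.ext
      rw [SymplecticGroup.coe_J, levAll_coe, J]
      have hw : (wM⁻¹ : SL(2, F)).1 = !![0, -1; 1, 0] := by
        rw [Matrix.SpecialLinearGroup.coe_inv, adjugate_fin_two, wM_coe]
        simp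
      simp [hw, ← diagonal_neg]
    rw [e]; exact hK _
  have hconj : ∀ z ∈ H, conjJ z ∈ H := fun z hz =>
    mul_mem (mul_mem hJ hz) (inv_mem hJ)
  have hlow : ∀ {z : Sp F m} {S : Matrix (Fin m) (Fin m) F}, z.1 = upM S →
      (conjJ z).1 = fromBlocks 1 0 (-S) 1 := fun {z S} hz => by
    have e : conjJ z * SymplecticGroup.symJ (Fin m) F = SymplecticGroup.symJ (Fin m) F * z :=
      inv_mul_cancel_right _ _
    have e' := congrArg Subtype.val e
    rw [coe_mul', coe_mul', SymplecticGroup.coe_J, hz] at e'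
    calc (conjJ z).1 = (conjJ z).1 * J (Fin m) F * -(J (Fin m) F) := by
          rw [mul_assoc, mul_neg, J_squared, neg_neg, mul_one]
      _ = J (Fin m) F * upM S * -(J (Fin m) F) := by rw [e']
      _ = _ := by simp [J, upM, fromBlocks_multiply, fromBlocks_neg]
  have hL' : ∀ x t, (L φ ψ x t).1 = upM (t • vecMulVec x x) := fun x t =>
    model_id.L_up x t
  have hT0 : ∀ x c, (⟨_, sympTransvection_mem (Sum.elim x 0) c⟩ : Sp F m) = L φ ψ x c := by
    intro x c
    apply Subtype.ext
    rw [hL']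
    unfold Cfsg.sympTransvection upM J
    ext (i | i) (j | j) <;>
      simp [fromBlocks_mulVec, vecMulVec_apply, one_apply, Matrix.smul_apply, neg_mulVec]
  have hT1 : ∀ y c, (⟨_, sympTransvection_mem (Sum.elim 0 y) c⟩ : Sp F m) = conjJ (L φ ψ y c) := by
    intro y c
    apply Subtype.ext
    rw [hlow (hL' y c)]
    unfold Cfsg.sympTransvection J
    ext (i | i) (j | j) <;>
      simp [fromBlocks_mulVec, vecMulVec_apply, one_apply, Matrix.smul_apply, neg_mulVec]
  rw [eq_top_iff, ← closure_sympTransvection, Subgroup.closure_le]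
  rintro A ⟨w, c, hA⟩
  obtain rfl : A = ⟨_, sympTransvection_mem w c⟩ := Subtype.ext hA
  rw [← Sum.elim_comp_inl_inr w]
  generalize w ∘ Sum.inl = x, w ∘ Sum.inr = y
  by_cases hx : x = 0
  · subst hx
    rw [SetLike.mem_coe, hT1]
    exact hconj _ (hL _ _)
  obtain ⟨k, hk⟩ := Function.ne_iff.1 hx
  let u : Fin m → F := Pi.single k (x k)⁻¹
  have hu : u ⬝ᵥ x = 1 := by simp [u, inv_mul_cancel₀ hk]
  let S0 : Matrix (Fin m) (Fin m) F := vecMulVec y u + vecMulVec u y - (y ⬝ᵥ x) • vecMulVec u u
  have hS0 : S0 *ᵥ x = y := by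
    simp [S0, add_mulVec, sub_mulVec, smul_mulVec, vecMulVec_mulVec, hu, op_smul_eq_smul]
  set Z := M φ ψ y u (-1) * L φ ψ u (y ⬝ᵥ x)
  have hZ : Z.1 = upM (-S0) := by
    have hM : (M φ ψ y u (-1)).1 = upM ((-1 : F) • (vecMulVec y u + vecMulVec u y)) :=
      model_id.M_up y u (-1)
    rw [coe_mul', hM, hL', upM_mul]
    congr 1
    simp only [S0, neg_one_smul]
    abel
  have hzw : (conjJ Z).1 *ᵥ Sum.elim x 0 = Sum.elim x y := by
    rw [hlow hZ, neg_neg, fromBlocks_mulVec]
    simp [hS0]
  rw [SetLike.mem_coe, show (⟨_, sympTransvection_mem (Sum.elim x y) c⟩ : Sp F m) =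
    ⟨_, sympTransvection_mem ((conjJ Z).1 *ᵥ Sum.elim x 0) c⟩ from Subtype.ext (by rw [hzw]),
    ← transvection_conj, hT0]
  have hZH : conjJ Z ∈ H :=
    hconj _ (mul_mem (mul_mem (mul_mem (hL _ _) (inv_mem (hL _ _))) (inv_mem (hL _ _))) (hL _ _))
  exact mul_mem (mul_mem hZH (hL _ _)) (inv_mem hZH)

/-- The free product of the two factors. -/
abbrev Cop (F : Type u) [Field F] (m : ℕ) := Monoid.Coprod (SpecialLinearGroup (Fin m) F) SL(2, F)

set_option maxHeartbeats 1000000 in
/-- The symplectic group is a quotient of the free product of the two factors by 15 relations. -/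
theorem sp_universal :
    ∃ (Φ : Cop F m →* Sp F m) (S : Finset (Cop F m)), Function.Surjective Φ ∧ S.card ≤ 15 ∧
      (∀ x ∈ S, Φ x = 1) ∧
        ∀ x, Φ x = 1 → x ∈ Subgroup.normalClosure (S : Set (Cop F m)) := by
  classical
  obtain ⟨ν, hν⟩ := exists_gen_unit F
  have hm3 := hm.out
  let φ : SpecialLinearGroup (Fin m) F →* (Cop F m) := Monoid.Coprod.inl
  let ψ : SL(2, F) →* (Cop F m) := Monoid.Coprod.inr
  let Φ : (Cop F m) →* Sp F m := Monoid.Coprod.lift diagBlock psi0
  have hΦφ : Φ.comp φ = diagBlock := Monoid.Coprod.lift_comp_inl _ _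
  have hΦψ : Φ.comp ψ = psi0 := Monoid.Coprod.lift_comp_inr _ _
  obtain ⟨sa, sb, hsab, hstab⟩ := exists_stab_gens (F := F) (m := m)
  obtain ⟨ga, gb, hg⟩ := sl_two_pair F
  let com : (Cop F m) → (Cop F m) → (Cop F m) := fun x y => x * y * x⁻¹ * y⁻¹
  let G2 : Finset SL(2, F) := {ga, gb}
  let SS : Finset (Cop F m) := (({sa, sb} : Finset _) ×ˢ G2).image fun p => com (φ p.1) (ψ p.2)
  let SL : Finset (Cop F m) := (G2 ×ˢ G2).image fun p => com (ψ p.1) (φ s01 * ψ p.2 * (φ s01)⁻¹)
  let ST : Finset (Cop F m) :=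
    {φ (emb h01 (dM ν)) * (ψ (dM ν) * (φ s01 * ψ (dM ν) * (φ s01)⁻¹)⁻¹)⁻¹}
  let SH : Finset (Cop F m) := halfRel ν φ ψ ∪ halfRel ν (φ.comp invT) (ψ.comp δ2)
  let S : Finset (Cop F m) := SS ∪ SL ∪ ST ∪ SH
  have hScard : S.card ≤ 15 := by
    have c1 : SS.card ≤ 4 := Finset.card_image_le.trans (by
      rw [Finset.card_product]; exact Nat.mul_le_mul Finset.card_le_two Finset.card_le_two)
    have c2 : SL.card ≤ 4 := Finset.card_image_le.trans (by
      rw [Finset.card_product]; exact Nat.mul_le_mul Finset.card_le_two Finset.card_le_two)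
    have c3 : ST.card ≤ 1 := by simp [ST]
    have c4 : SH.card ≤ 6 :=
      (Finset.card_union_le _ _).trans (Nat.add_le_add (card_halfRel _ _ _) (card_halfRel _ _ _))
    have u1 := Finset.card_union_le (SS ∪ SL ∪ ST) SH
    have u2 := Finset.card_union_le (SS ∪ SL) ST
    have u3 := Finset.card_union_le SS SL
    show (SS ∪ SL ∪ ST ∪ SH).card ≤ 15
    omega
  have hΦs : Function.Surjective Φ := by
    rw [← MonoidHom.range_eq_top, eq_top_iff, ← model_range, ← hΦφ, ← hΦψ, MonoidHom.range_comp,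
      MonoidHom.range_comp]
    exact sup_le (Subgroup.map_le_range _ _) (Subgroup.map_le_range _ _)
  have hM := seed_model (m := m) hν
  have h1 : ∀ g, Φ (φ g) = diagBlock g := fun g => DFunLike.congr_fun hΦφ g
  have h2 : ∀ s, Φ (ψ s) = psi0 s := fun s => DFunLike.congr_fun hΦψ s
  have hS : ∀ z ∈ S, Φ z = 1 := by
    intro z hz
    simp only [S, Finset.mem_union] at hz
    rcases hz with ((hz | hz) | hz) | hz
    · obtain ⟨⟨a, s⟩, hp, rfl⟩ := Finset.mem_image.1 hz
      have ha := hsab a (by simpa using (Finset.mem_product.1 hp).1)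
      simp only [com, map_mul, map_inv, h1, h2]
      exact (commute_iff_word _ _).1 (hM.stab a ha.1 ha.2 s)
    · obtain ⟨⟨s, t⟩, -, rfl⟩ := Finset.mem_image.1 hz
      simp only [com, map_mul, map_inv, h1, h2]
      exact (commute_iff_word _ _).1 (hM.lev s t)
    · simp only [ST, Finset.mem_singleton] at hz
      subst hz
      simp only [map_mul, map_inv, h1, h2]
      rw [mul_inv_eq_one]
      exact hM.tor
    · simp only [SH, Finset.mem_union] at hz
      rcases hz with hz | hz
      · exact (half_iff Φ ν φ ψ).1 (by rw [hΦφ, hΦψ]; exact hM.half) z hz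
      · exact (half_iff Φ ν _ _).1
          (by rw [← MonoidHom.comp_assoc, ← MonoidHom.comp_assoc, hΦφ, hΦψ]; exact hM.halfd) z hz
  refine ⟨Φ, S, hΦs, hScard, hS, ?_⟩
  intro c hc
  set N := Subgroup.normalClosure (S : Set (Cop F m))
  let q : (Cop F m) →* (Cop F m) ⧸ N := QuotientGroup.mk' N
  have hrel : ∀ y ∈ S, q y = 1 := fun y hy =>
    (QuotientGroup.eq_one_iff _).mpr (Subgroup.subset_normalClosure hy)
  have hcom : ∀ a b, com a b ∈ S → Commute (q a) (q b) := fun a b h => by
    have e := hrel _ h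
    simp only [com, map_mul, map_inv] at e
    exact (commute_iff_word _ _).2 e
  have hS' : Seed ν (q.comp φ) (q.comp ψ) :=
    { gen := hν
      stab := by
        intro g hc hr s
        have hga : ∀ a ∈ ({sa, sb} : Set (SpecialLinearGroup (Fin m) F)),
            ∀ s, Commute (q (φ a)) (q (ψ s)) := by
          intro a ha s
          have : (⊤ : Subgroup SL(2, F)) ≤ (Subgroup.centralizer {q (φ a)}).comap (q.comp ψ) := by
            rw [← hg, Subgroup.closure_le]
            intro o ho
            rw [SetLike.mem_coe, Subgroup.mem_comap, Subgroup.mem_centralizer_singleton_iff]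
            refine (hcom _ _ ?_).symm.eq
            simp only [S, Finset.mem_union]
            exact Or.inl (Or.inl (Or.inl (Finset.mem_image.2
              ⟨(a, o), Finset.mem_product.2 ⟨by simpa using ha, by simpa [G2] using ho⟩, rfl⟩)))
          exact (Subgroup.mem_centralizer_singleton_iff.1 (this (Subgroup.mem_top s)) : Commute _ _).symm
        have : Subgroup.closure ({sa, sb} : Set (SpecialLinearGroup (Fin m) F)) ≤
            (Subgroup.centralizer {q (ψ s)}).comap (q.comp φ) := by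
          rw [Subgroup.closure_le]
          intro a ha
          rw [SetLike.mem_coe, Subgroup.mem_comap, Subgroup.mem_centralizer_singleton_iff]
          exact (hga a ha s).eq
        exact Subgroup.mem_centralizer_singleton_iff.1 (this (hstab g hc hr))
      lev := by
        intro s t
        let K1 : SL(2, F) →* (Cop F m) ⧸ N := (MulAut.conj (q (φ s01))).toMonoidHom.comp (q.comp ψ)
        have hK : ∀ o, K1 o = q (φ s01 * ψ o * (φ s01)⁻¹) := fun o => by
          simp [K1, map_mul, map_inv]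
        have hbase : ∀ o ∈ ({ga, gb} : Set SL(2, F)), ∀ s, Commute (q (ψ s)) (K1 o) := by
          intro o ho s
          have : (⊤ : Subgroup SL(2, F)) ≤ (Subgroup.centralizer {K1 o}).comap (q.comp ψ) := by
            rw [← hg, Subgroup.closure_le]
            intro p hp
            rw [SetLike.mem_coe, Subgroup.mem_comap, Subgroup.mem_centralizer_singleton_iff, hK]
            refine (hcom _ _ ?_).eq
            simp only [S, Finset.mem_union]
            exact Or.inl (Or.inl (Or.inr (Finset.mem_image.2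
              ⟨(p, o), Finset.mem_product.2 ⟨by simpa [G2] using hp, by simpa [G2] using ho⟩, rfl⟩)))
          exact Subgroup.mem_centralizer_singleton_iff.1 (this (Subgroup.mem_top s))
        have : (⊤ : Subgroup SL(2, F)) ≤ (Subgroup.centralizer {q (ψ s)}).comap K1 := by
          rw [← hg, Subgroup.closure_le]
          intro o ho
          rw [SetLike.mem_coe, Subgroup.mem_comap, Subgroup.mem_centralizer_singleton_iff]
          exact (hbase o ho s).symm.eq
        have h3 : Commute (K1 t) (q (ψ s)) :=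
          Subgroup.mem_centralizer_singleton_iff.1 (this (Subgroup.mem_top t))
        exact h3.symm
      tor := by
        have e := hrel (φ (emb h01 (dM ν)) * (ψ (dM ν) * (φ s01 * ψ (dM ν) * (φ s01)⁻¹)⁻¹)⁻¹)
          (by simp [S, ST])
        rw [map_mul q, map_inv q, mul_inv_eq_one] at e
        simp only [MonoidHom.comp_apply, ← map_inv q, ← map_mul q]
        exact e
      half := (half_iff q ν φ ψ).2 fun z hz => hrel z (by simp [S, SH, hz])
      halfd := by
        rw [MonoidHom.comp_assoc, MonoidHom.comp_assoc]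
        exact (half_iff q ν _ _).2 fun z hz => hrel z (by simp [S, SH, hz]) }
  let σ : (Cop F m) ⧸ N →* Sp F m :=
    QuotientGroup.lift N Φ (Subgroup.normalClosure_le_normal fun x hx => hS x hx)
  have D : Model σ (q.comp φ) (q.comp ψ) := ⟨fun g => h1 g, fun s => (h2 s).trans (psi0_apply s)⟩
  have hP : (q.comp φ).range ⊔ (q.comp ψ).range = ⊤ := by
    rw [MonoidHom.range_comp, MonoidHom.range_comp, ← Subgroup.map_sup]
    show Subgroup.map q ((Monoid.Coprod.inl : _ →* (Cop F m)).range ⊔ (Monoid.Coprod.inr : _ →* (Cop F m)).range) = ⊤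
    rw [Monoid.Coprod.range_inl_sup_range_inr, ← MonoidHom.range_eq_map]
    exact MonoidHom.range_eq_top.2 (QuotientGroup.mk'_surjective N)
  have hinj := hS'.injective D hP
  refine (QuotientGroup.eq_one_iff c).1 (hinj ?_)
  rw [map_one]
  exact hc

/-- The symplectic group has at most 73 relations. -/
theorem sp_hasPres : HasPres (Sp F m) (49 + 9 + 15) := by
  obtain ⟨Φ, S, hΦs, hc, hS, h⟩ := sp_universal (F := F) (m := m)
  exact (((sl_big_hasPres hm.out).coprod (sl_two_hasPres F)).of_universal Φ hΦs S hS h).mono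
    (Nat.add_le_add_left hc _)

/-- The centre of the symplectic group is the normal closure of one element. -/
theorem center_normalClosure :
    ∃ z : Sp F m, Subgroup.center (Sp F m) = Subgroup.normalClosure {z} := by
  have hm3 := hm.out
  have := nontrivial_symp (F := F) (show 1 ≤ m by omega)
  let e1 : Subgroup.center (Sp F m) ≃* rootsOfUnity 2 F := (Subgroup.centerCongr (spEquiv m F)).trans
    (MulEquiv.ofBijective _ (Alt.scalarE_bijective (B := sympB m F) sympB_isAlt sympB_nondeg)).symm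
  have hcyc : IsCyclic (Subgroup.center (Sp F m)) := e1.isCyclic.mpr inferInstance
  obtain ⟨z, hz⟩ := hcyc.exists_generator
  refine ⟨z, le_antisymm (fun x hx => ?_) (Subgroup.normalClosure_le_normal (by simp))⟩
  obtain ⟨j, hj⟩ := hz ⟨x, hx⟩
  rw [show x = (z : Sp F m) ^ j from (congrArg Subtype.val hj).symm]
  exact zpow_mem (Subgroup.subset_normalClosure (by simp)) j

/-- The projective symplectic group has at most 74 relations. -/
theorem psp_hasPres : HasPres (Cfsg.PSp m F) (49 + 9 + 15 + 1) := by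
  classical
  obtain ⟨z, hz⟩ := center_normalClosure (F := F) (m := m)
  refine ((sp_hasPres (F := F) (m := m)).of_universal (QuotientGroup.mk' _)
    (QuotientGroup.mk'_surjective _) {z} (fun x hx => ?_) fun x hx => ?_).mono (by simp)
  · rw [Finset.mem_singleton] at hx
    exact (QuotientGroup.eq_one_iff _).mpr (hz ▸ hx ▸ Subgroup.subset_normalClosure rfl)
  · rw [Finset.coe_singleton, ← hz]
    exact (QuotientGroup.eq_one_iff x).mp hx

end Cfsg.Agent.SpShortPres
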