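import Cfsg.Agent.SpShortPres.Pres
import Cfsg.Agent.ShortPres.GenPres
import Cfsg.Agent.S2286

/-!
# Presentations of `Sp(2m, F)` and `PSp(2m, F)` with given numbers of generators
-/

set_option autoImplicit false

namespace Cfsg.Agent.SpShortPres

open Matrix Cfsg.Agent.ShortPres
open scoped MatrixGroups

universe u

variable {F : Type u} [Field F] [Fintype F] {m : ℕ} [hm : Fact (3 ≤ m)]

/-- `Sp(2m, F)` and `PSp(2m, F)` from a presentation of `SL(m, F)`. -/
theorem sp_presK {k r : ℕ} (h : PresK (SpecialLinearGroup (Fin m) F) k r) :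
    PresK (Sp F m) (k + 3) (r + 24) ∧ PresK (Cfsg.PSp m F) (k + 3) (r + 25) := by
  classical
  obtain ⟨rels, hc, he⟩ := (Cfsg.Agent.S2286.result (F := F)).1
  obtain ⟨Φ, S, hΦs, hS, hS1, hS2⟩ := sp_universal (F := F) (m := m)
  have h1 : PresK (Sp F m) (k + 3) (r + 24) :=
    ((h.coprod (presK_of_presented rels hc he)).of_universal Φ hΦs S hS1 hS2).mono (by omega)
  refine ⟨h1, ?_⟩
  obtain ⟨z, hz⟩ := center_normalClosure (F := F) (m := m)
  refine (h1.of_universal (QuotientGroup.mk' _)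
    (QuotientGroup.mk'_surjective _) {z} (fun x hx => ?_) fun x hx => ?_).mono (by simp)
  · rw [Finset.mem_singleton] at hx
    exact (QuotientGroup.eq_one_iff _).mpr (hz ▸ hx ▸ Subgroup.subset_normalClosure rfl)
  · rw [Finset.coe_singleton, ← hz]
    exact (QuotientGroup.eq_one_iff x).mp hx

/-- The presented forms, after padding the generators to `K`. -/
theorem sp_presented {k r : ℕ} (h : PresK (SpecialLinearGroup (Fin m) F) k r) {K R : ℕ}
    (hK : k + 3 ≤ K) (hR : r + 24 + (K - (k + 3)) ≤ R) :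
    (∃ rels : Finset (FreeGroup (Fin K)), rels.card ≤ R ∧
      Nonempty (PresentedGroup (↑rels : Set (FreeGroup (Fin K))) ≃* Sp F m)) ∧
    (∃ rels : Finset (FreeGroup (Fin K)), rels.card ≤ R + 1 ∧
      Nonempty (PresentedGroup (↑rels : Set (FreeGroup (Fin K))) ≃* Cfsg.PSp m F)) := by
  obtain ⟨h1, h2⟩ := sp_presK h
  exact ⟨(h1.enlarge hK hR).presented, (h2.enlarge hK (by omega)).presented⟩

end Cfsg.Agent.SpShortPres
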