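import Cfsg.Agent.CurtisTitsD.BN

/-!
A group generated by simple root subgroups and their opposites maps injectively as soon as this
holds on the positive part and on the monomial part.
-/

set_option autoImplicit false

namespace Cfsg.Agent.SpShortPres

open Cfsg.Agent.CurtisTitsD
open scoped commutatorElement Pointwise

variable {H : Type*} [Group H] {R ι : Type*}

theorem inj_of_UNU {O : Type*} [Group O] (σ : H →* O)
    (ht : R → ℤ) (ht0 : ∀ r, ht r ≠ 0)
    (neg : R → R) (hnegh : ∀ r, ht (neg r) = - ht r)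
    (X : R → Subgroup H) (α : ι → R) (hα : ∀ i, ht (α i) = 1)
    (π : ι → Equiv.Perm R) (hπn : ∀ i r, π i (neg r) = neg (π i r))
    (hπα : ∀ i, X (π i (α i)) = X (neg (α i))) (hπβ : ∀ i, X (π i (neg (α i))) = X (α i))
    (W : ι → Set H) (hW : ∀ i, ∀ m ∈ W i, ∀ r, (X r).map (MulAut.conj m).toMonoidHom = X (π i r))
    (hπ2 : ∀ i r, 2 ≤ ht r → 0 < ht (π i r))
    (hπ1 : ∀ i r, 0 < ht r → ¬ 0 < ht (π i r) → X r = X (α i))
    (hdec : ∀ i, ∀ x ∈ X (neg (α i)), x = 1 ∨ ∃ u ∈ X (α i), ∃ m ∈ W i, ∃ u' ∈ X (α i), x = u * m * u')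
    (hcomm : ∀ i r, 0 < ht r → ∀ x ∈ X (α i), ∀ y ∈ X r, ⁅x, y⁆ ∈ V ht X 2)
    (hgen : ⨆ i, X (α i) ⊔ X (neg (α i)) = ⊤)
    (hN : ∀ n ∈ Subgroup.closure (⋃ i, W i), σ n ∈ (V ht X 1).map σ → n = 1)
    (hU : ∀ u ∈ V ht X 1, σ u = 1 → u = 1) :
    ∀ g, σ g = 1 → g = 1 := by
  classical
  set U := V ht X 1 with hUdef
  have hXU : ∀ r, 0 < ht r → X r ≤ U := fun r h => le_V (by omega)
  let N0 : Subgroup H :=
    { carrier := {n | ∃ τ : Equiv.Perm R, (∀ r, τ (neg r) = neg (τ r)) ∧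
        ∀ r, (X r).map (MulAut.conj n).toMonoidHom = X (τ r)}
      one_mem' := ⟨1, fun _ => rfl, fun r => by
        rw [map_one]; exact Subgroup.map_id _⟩
      mul_mem' := by
        rintro a b ⟨τ, h1, h2⟩ ⟨τ', h1', h2'⟩
        refine ⟨τ * τ', fun r => ?_, fun r => ?_⟩
        · simp only [Equiv.Perm.mul_apply, h1', h1]
        · rw [Equiv.Perm.mul_apply, ← h2, ← h2', Subgroup.map_map]
          congr 1
          ext x
          simp [mul_assoc]
      inv_mem' := by
        rintro a ⟨τ, h1, h2⟩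
        refine ⟨τ⁻¹, fun r => τ.injective (by simp [h1]), fun r => ?_⟩
        have := h2 (τ⁻¹ r)
        rw [Equiv.Perm.coe_inv, Equiv.apply_symm_apply] at this
        rw [← this, Subgroup.map_map, Equiv.Perm.coe_inv]
        convert Subgroup.map_id (X (τ.symm r))
        ext x
        simp [mul_assoc] }
  set N := Subgroup.closure (⋃ i, W i) with hNdef
  have hWN : ∀ i, W i ⊆ N := fun i m hm => Subgroup.subset_closure (Set.mem_iUnion.2 ⟨i, hm⟩)
  have hNN0 : N ≤ N0 := by
    rw [hNdef, Subgroup.closure_le]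
    intro n hn
    obtain ⟨i, hi⟩ := Set.mem_iUnion.1 hn
    exact ⟨π i, hπn i, hW i n hi⟩
  let D : Set H := {g | ∃ u ∈ U, ∃ n ∈ N, ∃ u' ∈ U, g = u * n * u'}
  have hleft : ∀ i, ∀ x ∈ X (α i) ⊔ X (neg (α i)), ∀ g ∈ D, x * g ∈ D := by
    intro i
    have hXa : X (α i) ≤ U := hXU _ (by rw [hα]; omega)
    let Ua : Subgroup H := ⨆ r, ⨆ _ : 0 < ht r ∧ 0 < ht (π i r), X r
    have hUa : ∀ r, 0 < ht r → 0 < ht (π i r) → X r ≤ Ua := fun r h h' =>
      le_iSup_of_le r (le_iSup_of_le ⟨h, h'⟩ le_rfl)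
    have hV2 : V ht X 2 ≤ Ua := V_le fun r hr => hUa r (by omega) (hπ2 i r hr)
    have hnUa : X (α i) ≤ Subgroup.normalizer (Ua : Set H) := by
      refine le_normalizer' fun x hx => ?_
      suffices hle : Ua.map (MulAut.conj x).toMonoidHom ≤ Ua from fun y hy => hle ⟨y, hy, rfl⟩
      rw [Subgroup.map_le_iff_le_comap]
      refine iSup_le fun t => iSup_le fun ht' y hy => ?_
      show x * y * x⁻¹ ∈ Ua
      rw [show x * y * x⁻¹ = ⁅x, y⁆ * y by rw [commutatorElement_def]; group]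
      exact mul_mem (hV2 (hcomm i t ht'.1 x hx y hy)) (hUa t ht'.1 ht'.2 hy)
    have hUeq : U ≤ Ua ⊔ X (α i) := V_le fun r hr => by
      by_cases h : 0 < ht (π i r)
      · exact le_sup_of_le_left (hUa r (by omega) h)
      · exact le_sup_of_le_right (hπ1 i r (by omega) h).le
    have hsplit : ∀ u ∈ U, ∃ u0 ∈ Ua, ∃ x ∈ X (α i), u = u0 * x := by
      intro u hu
      have : u ∈ ((Ua : Set H) * (X (α i) : Set H)) := by
        rw [← Subgroup.coe_mul_of_right_le_normalizer_left _ _ hnUa]; exact hUeq hu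
      obtain ⟨a, ha, b, hb, e⟩ := this
      exact ⟨a, ha, b, hb, e.symm⟩
    have hmUa : ∀ m ∈ W i, ∀ u ∈ Ua, m * u * m⁻¹ ∈ U := by
      intro m hm
      suffices hle : Ua.map (MulAut.conj m).toMonoidHom ≤ U from fun u hu => hle ⟨u, hu, rfl⟩
      simp only [Ua, Subgroup.map_iSup]
      exact iSup_le fun r => iSup_le fun hr => (hW i m hm r).le.trans (hXU _ hr.2)
    have hmn : ∀ m ∈ W i, ∀ x ∈ X (α i), ∀ n ∈ N, m * x * n ∈ D := by
      intro m hm x hx n hn
      obtain ⟨τ, hτn, hτ⟩ := hNN0 hn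
      have hback : ∀ r, ∀ y ∈ X (τ r), n⁻¹ * y * n ∈ X r := fun r y hy => by
        rw [← hτ r] at hy
        obtain ⟨y', hy', rfl⟩ := hy
        simpa [mul_assoc] using hy'
      set r := τ.symm (α i) with hr
      have hxr : n⁻¹ * x * n ∈ X r := hback r x (by rwa [hr, Equiv.apply_symm_apply])
      by_cases hpos : 0 < ht r
      · exact ⟨1, one_mem _, m * n, mul_mem (hWN i hm) hn, _, hXU r hpos hxr, by group⟩
      have hneg' : m * x * m⁻¹ ∈ X (neg (α i)) := by
        rw [← hπα i, ← hW i m hm]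
        exact ⟨x, hx, rfl⟩
      rcases hdec i _ hneg' with h1 | ⟨u, hu, m', hm', u', hu', e⟩
      · refine ⟨1, one_mem _, m * n, mul_mem (hWN i hm) hn, 1, one_mem _, ?_⟩
        rw [show m * x * n = m * x * m⁻¹ * (m * n) by group, h1]
        group
      have hu'' : (m * n)⁻¹ * u' * (m * n) ∈ X (neg r) := by
        have h2 : u' ∈ X (π i (neg (α i))) := by rwa [hπβ]
        rw [← hW i m hm] at h2
        obtain ⟨y, hy, rfl⟩ := h2
        have := hback (neg r) y (by rwa [hτn, hr, Equiv.apply_symm_apply])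
        convert this using 1
        simp [mul_assoc]
      refine ⟨u, hXa hu, m' * (m * n), mul_mem (hWN i hm') (mul_mem (hWN i hm) hn), _,
        hXU _ (by rw [hnegh]; have := ht0 r; omega) hu'', ?_⟩
      rw [show m * x * n = m * x * m⁻¹ * (m * n) by group, e]
      group
    have hpos : ∀ x ∈ X (α i), ∀ g ∈ D, x * g ∈ D := by
      rintro x hx _ ⟨u, hu, n, hn, u', hu', rfl⟩
      exact ⟨x * u, mul_mem (hXa hx) hu, n, hn, u', hu', by group⟩
    have hnegl : ∀ x ∈ X (neg (α i)), ∀ g ∈ D, x * g ∈ D := by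
      intro x hx g hg
      rcases hdec i x hx with rfl | ⟨a, ha, m, hm, b, hb, rfl⟩
      · simpa using hg
      obtain ⟨u, hu, n, hn, u', hu', rfl⟩ := hg
      obtain ⟨u0, hu0, y, hy, e⟩ := hsplit (b * u) (mul_mem (hXa hb) hu)
      obtain ⟨v, hv, n', hn', v', hv', e'⟩ := hmn m hm y hy n hn
      refine ⟨a * (m * u0 * m⁻¹) * v, mul_mem (mul_mem (hXa ha) (hmUa m hm u0 hu0)) hv, n', hn',
        v' * u', mul_mem hv' hu', ?_⟩
      calc a * m * b * (u * n * u') = a * m * (b * u) * n * u' := by group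
        _ = a * (m * u0 * m⁻¹) * (m * y * n) * u' := by rw [e]; group
        _ = _ := by rw [e']; group
    intro x hx
    rw [← Subgroup.closure_eq (X (α i)), ← Subgroup.closure_eq (X (neg (α i))),
      ← Subgroup.closure_union] at hx
    induction hx using Subgroup.closure_induction'' with
    | one => exact fun g hg => by simpa using hg
    | mem z hz =>
      rcases hz with hz | hz
      · exact hpos z hz
      · exact hnegl z hz
    | inv_mem z hz =>
      rcases hz with hz | hz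
      · exact hpos _ (inv_mem hz)
      · exact hnegl _ (inv_mem hz)
    | mul a b _ _ ha hb => exact fun g hg => by rw [mul_assoc]; exact ha _ (hb g hg)
  have hD : ∀ g, g ∈ D := by
    intro g
    have hg : g ∈ (⊤ : Subgroup H) := Subgroup.mem_top g
    rw [← hgen] at hg
    suffices h : ∀ y ∈ D, g * y ∈ D by
      simpa using h 1 ⟨1, one_mem _, 1, one_mem _, 1, one_mem _, by group⟩
    induction hg using Subgroup.iSup_induction' with
    | hp i x hx => exact hleft i x hx
    | h1 => exact fun y hy => by simpa using hy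
    | hmul a b _ _ ha hb => exact fun y hy => by rw [mul_assoc]; exact ha _ (hb y hy)
  intro g hg
  obtain ⟨u, hu, n, hn, u', hu', rfl⟩ := hD g
  have hσn : σ n ∈ U.map σ := by
    refine ⟨u⁻¹ * u'⁻¹, mul_mem (inv_mem hu) (inv_mem hu'), ?_⟩
    rw [map_mul, map_inv, map_inv]
    calc (σ u)⁻¹ * (σ u')⁻¹ = (σ u)⁻¹ * σ (u * n * u') * (σ u')⁻¹ := by rw [hg]; group
      _ = σ n := by rw [map_mul, map_mul]; group
  obtain rfl := hN n hn hσn
  rw [mul_one] at hg ⊢
  exact hU _ (mul_mem hu hu') hg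

end Cfsg.Agent.SpShortPres
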