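import Cfsg.Agent.ShortPres.SLPres

/-!
# Auxiliary homomorphisms and elements of `SL(m, F)`
-/

set_option autoImplicit false

namespace Cfsg.Agent.SpShortPres

open Matrix Cfsg.Agent.SL2Pres Cfsg.Agent.SLMult Cfsg.Agent.CurtisTitsA
open scoped MatrixGroups commutatorElement

universe u

variable {F : Type u} [Field F] {m : ℕ}

/-- Inverse transpose. -/
def invT : SpecialLinearGroup (Fin m) F →* SpecialLinearGroup (Fin m) F where
  toFun g := ⟨(g⁻¹).1ᵀ, by rw [det_transpose]; exact (g⁻¹).2⟩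
  map_one' := Subtype.ext (by simp)
  map_mul' g h := Subtype.ext (by
    show ((g * h)⁻¹).1ᵀ = (g⁻¹).1ᵀ * (h⁻¹).1ᵀ
    rw [_root_.mul_inv_rev, Matrix.SpecialLinearGroup.coe_mul, transpose_mul])

theorem invT_coe (g : SpecialLinearGroup (Fin m) F) : (invT g).1 = (g⁻¹).1ᵀ := rfl

theorem invT_invT (g : SpecialLinearGroup (Fin m) F) : invT (invT g) = g := by
  apply Subtype.ext
  rw [invT_coe, ← map_inv, invT_coe, inv_inv, transpose_transpose]

theorem tx_neg {ι : Type*} [Fintype ι] [DecidableEq ι] {i j : ι} (h : i ≠ j) (a : F) :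
    tx i j (-a) = (tx i j a)⁻¹ :=
  eq_inv_of_mul_eq_one_left (by rw [← tx_add h, neg_add_cancel, tx_zero])

theorem invT_tx {i j : Fin m} (h : i ≠ j) (a : F) : invT (tx i j a) = tx j i (-a) := by
  apply Subtype.ext
  rw [invT_coe, ← tx_neg h, tx_eq h, tx_eq h.symm, Matrix.SpecialLinearGroup.transvection_coe,
    Matrix.SpecialLinearGroup.transvection_coe]
  simp [Matrix.transpose_single]

/-- Conjugation by the Weyl element, which is inverse transpose in rank one. -/
noncomputable def δ2 : SL(2, F) →* SL(2, F) := (MulAut.conj (wM : SL(2, F))).toMonoidHom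

theorem δ2_apply (s : SL(2, F)) : δ2 s = wM * s * wM⁻¹ := rfl

theorem dM_neg_one_comm (s : SL(2, F)) : dM (-1 : Fˣ) * s = s * dM (-1 : Fˣ) := by
  ext i j
  fin_cases i <;> fin_cases j <;>
    simp [Matrix.SpecialLinearGroup.coe_mul, Matrix.mul_apply, Fin.sum_univ_two, dM_coe]

theorem δ2_δ2 (s : SL(2, F)) : δ2 (δ2 s) = s := by
  rw [δ2_apply, δ2_apply, show wM * (wM * s * wM⁻¹) * wM⁻¹ = (wM * wM) * s * (wM * wM : SL(2, F))⁻¹
    by group, wM_sq, dM_neg_one_comm, mul_inv_cancel_right]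

theorem δ2_wM : δ2 (wM : SL(2, F)) = wM := by rw [δ2_apply, mul_inv_cancel_right]

theorem δ2_dM (a : Fˣ) : δ2 (dM a) = (dM a)⁻¹ := wM_conj_dM a

theorem δ2_uM (a : F) : δ2 (uM a) = tx (1 : Fin 2) 0 (-a) := by
  rw [δ2_apply, mul_inv_eq_iff_eq_mul, tx_eq (by decide : (1 : Fin 2) ≠ 0)]
  apply Subtype.ext
  rw [Matrix.SpecialLinearGroup.coe_mul, Matrix.SpecialLinearGroup.coe_mul,
    Matrix.SpecialLinearGroup.transvection_coe]
  ext i j
  fin_cases i <;> fin_cases j <;>
    simp [Matrix.mul_apply, Fin.sum_univ_two, uM_coe, wM_coe, Matrix.transvection, Matrix.single]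

theorem δ2_lo (a : F) : δ2 (tx (1 : Fin 2) 0 a) = uM (-a) := by
  rw [← δ2_δ2 (uM (-a)), δ2_uM, neg_neg]

theorem mulVec_single_inj {A B : SpecialLinearGroup (Fin m) F}
    (h : ∀ i, A.1 *ᵥ Pi.single i 1 = B.1 *ᵥ Pi.single i 1) : A = B :=
  Subtype.ext (ext_of_mulVec_single h)

theorem mulVec_inv {g : SpecialLinearGroup (Fin m) F} {v w : Fin m → F} (h : g.1 *ᵥ v = w) :
    (g⁻¹).1 *ᵥ w = v := by
  rw [← h, mulVec_mulVec, ← Matrix.SpecialLinearGroup.coe_mul, inv_mul_cancel,
    Matrix.SpecialLinearGroup.coe_one, one_mulVec]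

theorem vecMul_inv {g : SpecialLinearGroup (Fin m) F} {v w : Fin m → F} (h : v ᵥ* g.1 = w) :
    w ᵥ* (g⁻¹).1 = v := by
  rw [← h, vecMul_vecMul, ← Matrix.SpecialLinearGroup.coe_mul, mul_inv_cancel,
    Matrix.SpecialLinearGroup.coe_one, vecMul_one]

theorem tx_mulVec_single {i j : Fin m} (h : i ≠ j) (a : F) (k : Fin m) (c : F) :
    (tx i j a : SpecialLinearGroup (Fin m) F).1 *ᵥ Pi.single k c =
      Pi.single k c + if k = j then Pi.single i (a * c) else 0 := by
  rw [tx_eq h, Matrix.SpecialLinearGroup.transvection_coe, add_mulVec, one_mulVec, single_mulVec]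
  congr 1
  funext r
  by_cases hk : k = j
  · subst hk
    by_cases hr : r = i
    · subst hr; simp
    · simp [hr]
  · by_cases hr : r = i
    · subst hr; simp [hk, Ne.symm hk]
    · simp [hk, hr]

theorem tx_fix {i j k : Fin m} (h : i ≠ j) (hk : k ≠ j) (a : F) :
    (tx i j a : SpecialLinearGroup (Fin m) F).1 *ᵥ Pi.single k 1 = Pi.single k 1 := by
  rw [tx_mulVec_single h, if_neg hk, add_zero]

theorem tx_fix_row {i j k : Fin m} (h : i ≠ j) (hk : k ≠ i) (a : F) :
    Pi.single k (1 : F) ᵥ* (tx i j a : SpecialLinearGroup (Fin m) F).1 = Pi.single k 1 := by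
  rw [tx_eq h, Matrix.SpecialLinearGroup.transvection_coe, vecMul_add, vecMul_one]
  convert add_zero _
  funext r
  simp only [Matrix.vecMul, dotProduct, Matrix.single, Pi.single_apply, Matrix.of_apply, Pi.zero_apply]
  apply Finset.sum_eq_zero
  intro x _
  split_ifs with h1 h2 <;> simp_all

/-- A monomial matrix `e i ↦ d i • e (σ i)`. -/
def monoMat (σ : Equiv.Perm (Fin m)) (d : Fin m → Fˣ)
    (h : ((Equiv.Perm.sign σ : ℤ) : F) * ∏ i, (d i : F) = 1) : SpecialLinearGroup (Fin m) F :=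
  ⟨(σ⁻¹).permMatrix F * diagonal fun i => (d i : F), by
    rw [det_mul, det_permutation, det_diagonal, Equiv.Perm.sign_inv, h]⟩

theorem monoMat_single (σ : Equiv.Perm (Fin m)) (d : Fin m → Fˣ)
    (h : ((Equiv.Perm.sign σ : ℤ) : F) * ∏ i, (d i : F) = 1) (i : Fin m) :
    (monoMat σ d h).1 *ᵥ Pi.single i 1 = Pi.single (σ i) (d i : F) := by
  show ((σ⁻¹).permMatrix F * diagonal _) *ᵥ _ = _
  rw [← mulVec_mulVec]
  funext r
  rw [permMatrix_mulVec]
  show (diagonal _ *ᵥ _) (σ⁻¹ r) = _
  rw [mulVec_diagonal]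
  by_cases hr : r = σ i
  · subst hr
    simp
  · have : (σ⁻¹ : Equiv.Perm (Fin m)) r ≠ i := fun e => hr (by rw [← e]; simp)
    rw [Pi.single_eq_of_ne hr, Pi.single_eq_of_ne this, mul_zero]

/-- Three columns can be moved to three others, up to a sign of the last one. -/
theorem exists_mono3 (f g : Fin 3 → Fin m) (hf : Function.Injective f) (hg : Function.Injective g) :
    ∃ (x : SpecialLinearGroup (Fin m) F) (s : Fˣ),
      x.1 *ᵥ Pi.single (f 0) 1 = Pi.single (g 0) 1 ∧
      x.1 *ᵥ Pi.single (f 1) 1 = Pi.single (g 1) 1 ∧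
      x.1 *ᵥ Pi.single (f 2) 1 = Pi.single (g 2) (s : F) := by
  classical
  obtain ⟨σ, hσ⟩ := Cfsg.Agent.ShortPres.exists_perm_map f g hf hg
  let s : Fˣ := Units.map (Int.castRingHom F).toMonoidHom (Equiv.Perm.sign σ)
  let d : Fin m → Fˣ := Function.update (fun _ => 1) (f 2) s
  have hd : ((Equiv.Perm.sign σ : ℤ) : F) * ∏ i, (d i : F) = 1 := by
    rw [Finset.prod_eq_single (f 2) (fun i _ hi => by simp [d, hi]) (by simp)]
    simp only [d, Function.update_self, s, Units.coe_map, RingHom.toMonoidHom_eq_coe,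
      MonoidHom.coe_coe, Int.coe_castRingHom]
    rw [← Int.cast_mul, ← Units.val_mul, Int.units_mul_self, Units.val_one, Int.cast_one]
  refine ⟨monoMat σ d hd, s, ?_, ?_, ?_⟩
  · rw [monoMat_single, hσ]
    simp [d, hf.ne (show (0 : Fin 3) ≠ 2 by decide)]
  · rw [monoMat_single, hσ]
    simp [d, hf.ne (show (1 : Fin 3) ≠ 2 by decide)]
  · rw [monoMat_single, hσ]
    simp [d]

variable [Fintype F]

theorem invT_emb {a b : Fin m} (h : a ≠ b) (s : SL(2, F)) : invT (emb h s) = emb h (δ2 s) := by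
  refine DFunLike.congr_fun (f := invT.comp (emb (F := F) h)) (g := (emb (F := F) h).comp δ2) ?_ s
  refine hom_ext2 (fun c => ?_) fun c => ?_
  · rw [MonoidHom.comp_apply, MonoidHom.comp_apply, emb_tx01, invT_tx h, ← ShortPres.uM_eq_tx, δ2_uM,
      emb_tx10]
  · rw [MonoidHom.comp_apply, MonoidHom.comp_apply, emb_tx10, invT_tx h.symm, δ2_lo,
      ShortPres.uM_eq_tx, emb_tx01]

/-- A pair of independent vectors is the image of the first two basis vectors. -/
theorem exists_move_pair {i j k : Fin m} (hij : i ≠ j) (hik : i ≠ k) (hjk : j ≠ k) {u v : Fin m → F}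
    (hind : LinearIndependent F ![u, v]) :
    ∃ g : SpecialLinearGroup (Fin m) F, g.1 *ᵥ Pi.single i 1 = u ∧ g.1 *ᵥ Pi.single j 1 = v := by
  classical
  obtain ⟨g, x, y, x', y', hu, hv⟩ := exists_plane hij u v
  have hD : x * y' - x' * y ≠ 0 := by
    intro h0
    rw [LinearIndependent.pair_iff] at hind
    by_cases hx : x = 0
    · by_cases hy : y = 0
      · have : u = 0 := by rw [hu, hx, hy]; simp
        exact one_ne_zero (hind 1 0 (by simp [this])).1
      · have hx' : x' = 0 := by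
          rw [hx, zero_mul, zero_sub, neg_eq_zero] at h0
          exact (mul_eq_zero.mp h0).resolve_right hy
        have := hind y' (-y) (by
          rw [hu, hv, ← mulVec_smul, ← mulVec_smul, ← mulVec_add, ← mulVec_zero g.1]
          congr 1
          funext r
          simp [hx, hx', Pi.single_apply, mul_comm])
        exact hy (neg_eq_zero.mp this.2)
    · have hxx : x * y' = x' * y := sub_eq_zero.mp h0
      have := hind x' (-x) (by
        rw [hu, hv, ← mulVec_smul, ← mulVec_smul, ← mulVec_add, ← mulVec_zero g.1]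
        congr 1
        funext r
        simp only [Pi.add_apply, Pi.smul_apply, smul_eq_mul, Pi.single_apply, Pi.zero_apply]
        split_ifs <;> first | ring1 | linear_combination hxx | linear_combination (0 : F) - hxx)
      exact hx (neg_eq_zero.mp this.2)
  let D : Fˣ := Units.mk0 _ hD
  let s : SL(2, F) := ⟨!![x, x' * ((D⁻¹ : Fˣ) : F); y, y' * ((D⁻¹ : Fˣ) : F)], by
    rw [det_fin_two_of, show x * (y' * ((D⁻¹ : Fˣ) : F)) - x' * ((D⁻¹ : Fˣ) : F) * y =
      (x * y' - x' * y) * ((D⁻¹ : Fˣ) : F) by ring]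
    exact D.mul_inv⟩
  have hd : ∀ c, (emb hjk (dM D) : SpecialLinearGroup (Fin m) F).1 *ᵥ Pi.single c 1 =
      Pi.single c (dd j k (D : F) c) := fun c => by
    rw [ShortPres.emb_dM_coe]
    funext r
    rw [mulVec_diagonal]
    by_cases hr : r = c
    · subst hr; simp
    · simp [hr]
  have hs : ∀ a b : F, (emb hij s).1 *ᵥ (Pi.single i a + Pi.single j b) =
      Pi.single i (x * a + x' * ((D⁻¹ : Fˣ) : F) * b) + Pi.single j (y * a + y' * ((D⁻¹ : Fˣ) : F) * b) := by
    intro a b
    obtain ⟨e1, e2, e3⟩ := emb_act hij s (Pi.single i a + Pi.single j b)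
    funext r
    by_cases ri : r = i
    · subst ri
      rw [e1]; simp [hij, hij.symm, s]
    by_cases rj : r = j
    · subst rj
      rw [e2]; simp [hij, hij.symm, s]
    rw [e3 r ri rj]
    simp [ri, rj]
  refine ⟨g * emb hij s * emb hjk (dM D), ?_, ?_⟩
  · rw [Matrix.SpecialLinearGroup.coe_mul, ← mulVec_mulVec, hd, Matrix.SpecialLinearGroup.coe_mul,
      ← mulVec_mulVec, hu]
    have := hs 1 0
    rw [Pi.single_zero, add_zero] at this
    rw [show dd j k (D : F) i = 1 by simp [dd, hij, hik], this]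
    simp
  · rw [Matrix.SpecialLinearGroup.coe_mul, ← mulVec_mulVec, hd, Matrix.SpecialLinearGroup.coe_mul,
      ← mulVec_mulVec, hv]
    have := hs 0 (D : F)
    rw [Pi.single_zero, zero_add] at this
    rw [show dd j k (D : F) j = (D : F) by simp [dd], this]
    simp [mul_assoc]

/-- Every non-zero vector is the image of a basis vector. -/
theorem exists_move {i j k : Fin m} (hij : i ≠ j) (hik : i ≠ k) (hjk : j ≠ k) {u : Fin m → F}
    (hu : u ≠ 0) : ∃ g : SpecialLinearGroup (Fin m) F, g.1 *ᵥ Pi.single i 1 = u := by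
  classical
  by_cases h : LinearIndependent F ![u, Pi.single j 1]
  · obtain ⟨g, hg, -⟩ := exists_move_pair hij hik hjk h
    exact ⟨g, hg⟩
  · have h' : LinearIndependent F ![u, Pi.single k 1] := by
      rw [LinearIndependent.pair_iff' hu] at h ⊢
      push Not at h
      obtain ⟨a, ha⟩ := h
      intro b hb
      have e := congrFun ha k
      have e' := congrFun hb k
      have ha0 : a ≠ 0 := by
        rintro rfl
        have := congrFun ha j
        simp at this
      simp [hjk.symm, ha0] at e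
      simp [e] at e'
    obtain ⟨g, hg, -⟩ := exists_move_pair hik hij hjk.symm h'
    exact ⟨g, hg⟩

end Cfsg.Agent.SpShortPres
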