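import Cfsg.Agent.SpShortPres.Upper
import Cfsg.Agent.SpShortPres.BN

/-!
# The seed relations present the symplectic group: injectivity
-/

set_option autoImplicit false

namespace Cfsg.Agent.SpShortPres

open Matrix Cfsg.Agent.SL2Pres Cfsg.Agent.SLMult Cfsg.Agent.CurtisTitsA Cfsg.Agent.CurtisTitsD
open scoped MatrixGroups commutatorElement

universe u v

variable {F : Type u} [Field F] [Fintype F] {m : ℕ} [hm : Fact (3 ≤ m)] {P : Type v} [Group P]

/-- Weights of the coordinates. -/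
def wt : Fin m ⊕ Fin m → ℤ
  | .inl i => 2 * (i : ℕ) + 1
  | .inr i => -(2 * (i : ℕ) + 1)

/-- Pairs of different coordinates. -/
abbrev Rt (m : ℕ) := {z : (Fin m ⊕ Fin m) × (Fin m ⊕ Fin m) // z.1 ≠ z.2}

/-- Heights. -/
def rht (r : Rt m) : ℤ := (wt r.1.1 - wt r.1.2) / 2

/-- The opposite root. -/
def rneg (r : Rt m) : Rt m := ⟨(r.1.2, r.1.1), r.2.symm⟩

/-- The predecessor. -/
def prv (i : Fin m) : Fin m := ⟨(i : ℕ) - 1, by have := i.isLt; omega⟩

/-- The simple roots. -/
def simpleRoot (i : Fin m) : Rt m :=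
  if h : (i : ℕ) = 0 then ⟨(.inl i, .inr i), by simp⟩
  else ⟨(.inl i, .inl (prv i)), by simp [prv, Fin.ext_iff]; omega⟩

/-- The simple reflections on coordinates. -/
def simplePerm (i : Fin m) : Equiv.Perm (Fin m ⊕ Fin m) :=
  if (i : ℕ) = 0 then Equiv.swap (.inl i) (.inr i)
  else Equiv.sumCongr (Equiv.swap i (prv i)) (Equiv.swap i (prv i))

/-- A permutation of coordinates acting on roots. -/
def rperm (π : Equiv.Perm (Fin m ⊕ Fin m)) : Equiv.Perm (Rt m) :=
  Equiv.subtypeEquiv (Equiv.prodCongr π π) fun z => π.injective.ne_iff.symm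

theorem rht_ne (r : Rt m) : rht r ≠ 0 := by
  obtain ⟨⟨p, q⟩, hpq⟩ := r
  rcases p with i | i <;> rcases q with j | j <;> simp [rht, wt, Fin.ext_iff] at hpq ⊢ <;> omega

theorem rht_neg (r : Rt m) : rht (rneg r) = -rht r := by
  obtain ⟨⟨p, q⟩, hpq⟩ := r
  rcases p with i | i <;> rcases q with j | j <;> simp [rht, rneg, wt] <;> omega

theorem rht_simple (i : Fin m) : rht (simpleRoot i) = 1 := by
  unfold simpleRoot
  split
  · simp [rht, wt]; omega
  · simp [rht, wt, prv]; omega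

theorem wt_injective : Function.Injective (wt (m := m)) := by
  rintro (i | i) (j | j) h <;> simp only [wt] at h
  · exact congrArg Sum.inl (Fin.ext (by omega))
  · exfalso; omega
  · exfalso; omega
  · exact congrArg Sum.inr (Fin.ext (by omega))

theorem wt_odd (p : Fin m ⊕ Fin m) : ∃ k : ℤ, wt p = 2 * k + 1 := by
  rcases p with i | i
  · exact ⟨(i : ℕ), rfl⟩
  · exact ⟨-((i : ℕ) : ℤ) - 1, by simp only [wt]; ring⟩

theorem wt_perm (i : Fin m) (p : Fin m ⊕ Fin m) : wt (simplePerm i p) =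
    if (i : ℕ) = 0 then (if wt p = 1 then -1 else if wt p = -1 then 1 else wt p)
    else if wt p = 2 * ((i : ℕ) : ℤ) + 1 then 2 * ((i : ℕ) : ℤ) - 1
    else if wt p = 2 * ((i : ℕ) : ℤ) - 1 then 2 * ((i : ℕ) : ℤ) + 1
    else if wt p = -(2 * ((i : ℕ) : ℤ) + 1) then -(2 * ((i : ℕ) : ℤ) - 1)
    else if wt p = -(2 * ((i : ℕ) : ℤ) - 1) then -(2 * ((i : ℕ) : ℤ) + 1)
    else wt p := by
  by_cases h : (i : ℕ) = 0
  · rw [if_pos h, simplePerm, if_pos h, Equiv.swap_apply_def]
    rcases p with k | k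
    · by_cases hk : k = i
      · subst hk; simp [wt, h]
      · have : (k : ℕ) ≠ 0 := fun e => hk (Fin.ext (e.trans h.symm))
        simp [wt, hk]
        omega
    · by_cases hk : k = i
      · subst hk; simp [wt, h]
      · have : (k : ℕ) ≠ 0 := fun e => hk (Fin.ext (e.trans h.symm))
        simp [wt, hk]
        omega
  · rw [if_neg h, simplePerm, if_neg h]
    have hp : ((prv i : Fin m) : ℕ) = (i : ℕ) - 1 := rfl
    rcases p with k | k <;> by_cases hk : k = i
    · subst hk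
      rw [Equiv.sumCongr_apply, Sum.map_inl, Equiv.swap_apply_left]
      simp only [wt, hp]; split_ifs <;> omega
    · by_cases hk' : k = prv i
      · subst hk'
        rw [Equiv.sumCongr_apply, Sum.map_inl, Equiv.swap_apply_right]
        simp only [wt, hp]; split_ifs <;> omega
      · rw [Equiv.sumCongr_apply, Sum.map_inl, Equiv.swap_apply_of_ne_of_ne hk hk']
        rw [Fin.ext_iff] at hk hk'
        simp only [wt]; split_ifs <;> omega
    · subst hk
      rw [Equiv.sumCongr_apply, Sum.map_inr, Equiv.swap_apply_left]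
      simp only [wt, hp]; split_ifs <;> omega
    · by_cases hk' : k = prv i
      · subst hk'
        rw [Equiv.sumCongr_apply, Sum.map_inr, Equiv.swap_apply_right]
        simp only [wt, hp]; split_ifs <;> omega
      · rw [Equiv.sumCongr_apply, Sum.map_inr, Equiv.swap_apply_of_ne_of_ne hk hk']
        rw [Fin.ext_iff] at hk hk'
        simp only [wt]; split_ifs <;> omega

theorem emb_mono {a b : Fin m} (h : a ≠ b) (c : Fˣ) :
    IsMono (emb h (dM c * wM)) (Equiv.swap a b)
      (Function.update (Function.update 1 a (-c⁻¹)) b c) := by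
  intro j
  have hw : (dM c * wM : SL(2, F)).1 = !![0, (c : F); -((c⁻¹ : Fˣ) : F), 0] := by
    rw [Matrix.SpecialLinearGroup.coe_mul, dM_coe, wM_coe]
    ext p q
    fin_cases p <;> fin_cases q <;> simp
  obtain ⟨e1, e2, e3⟩ := emb_act (F := F) h (dM c * wM) (bv j)
  funext r
  show ((emb h (dM c * wM)).1 *ᵥ bv j) r = _
  rcases eq_or_ne j a with rfl | ja
  · rw [Equiv.swap_apply_left, Function.update_of_ne h, Function.update_self]
    by_cases r0 : r = j
    · rw [r0, e1, hw]; simp [bv, h, h.symm]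
    by_cases r1 : r = b
    · rw [r1, e2, hw]; simp [bv, h, h.symm]
    rw [e3 r r0 r1]; simp [bv, r0, r1]
  rcases eq_or_ne j b with rfl | jb
  · rw [Equiv.swap_apply_right, Function.update_self]
    by_cases r0 : r = a
    · rw [r0, e1, hw]; simp [bv, h, h.symm]
    by_cases r1 : r = j
    · rw [r1, e2, hw]; simp [bv, h, h.symm]
    rw [e3 r r0 r1]; simp [bv, r0, r1]
  rw [Equiv.swap_apply_of_ne_of_ne ja jb, Function.update_of_ne jb, Function.update_of_ne ja]
  by_cases r0 : r = a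
  · rw [r0, e1, hw]; simp [bv, ja.symm, jb.symm]
  by_cases r1 : r = b
  · rw [r1, e2, hw]; simp [bv, ja.symm, jb.symm]
  rw [e3 r r0 r1]; simp [bv]

/-- Monomial elements of rank one. -/
def Mono2 (s : SL(2, F)) : Prop := (s.1 0 1 = 0 ∧ s.1 1 0 = 0) ∨ (s.1 0 0 = 0 ∧ s.1 1 1 = 0)

theorem Mono2.one : Mono2 (1 : SL(2, F)) := Or.inl (by simp)

theorem Mono2.mul {s t : SL(2, F)} (hs : Mono2 s) (ht : Mono2 t) : Mono2 (s * t) := by
  rcases hs with ⟨a, b⟩ | ⟨a, b⟩ <;> rcases ht with ⟨c, d⟩ | ⟨c, d⟩ <;>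
    simp [Mono2, Matrix.SpecialLinearGroup.coe_mul, Matrix.mul_apply, Fin.sum_univ_two, a, b, c, d]

theorem Mono2.inv {s : SL(2, F)} (hs : Mono2 s) : Mono2 s⁻¹ := by
  rcases hs with ⟨a, b⟩ | ⟨a, b⟩ <;>
    simp [Mono2, Matrix.SpecialLinearGroup.coe_inv, adjugate_fin_two, a, b]

theorem Mono2.dM (c : Fˣ) : Mono2 (dM c : SL(2, F)) := Or.inl (by simp [dM_coe])

theorem lo_decomp (t : F) (ht : t ≠ 0) :
    (tx (1 : Fin 2) 0 t : SL(2, F)) = uM t⁻¹ * (dM (-(Units.mk0 t ht)⁻¹) * wM) * uM t⁻¹ := by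
  rw [tx_eq (by decide : (1 : Fin 2) ≠ 0)]
  apply Subtype.ext
  rw [Matrix.SpecialLinearGroup.transvection_coe, Matrix.SpecialLinearGroup.coe_mul,
    Matrix.SpecialLinearGroup.coe_mul, Matrix.SpecialLinearGroup.coe_mul, dM_coe, wM_coe, uM_coe]
  ext p q
  fin_cases p <;> fin_cases q <;>
    simp [Matrix.mul_apply, Fin.sum_univ_two, Matrix.transvection, Matrix.single] <;> field_simp <;>
    ring

namespace Seed

variable {ν : Fˣ} {φ : SpecialLinearGroup (Fin m) F →* P} {ψ : SL(2, F) →* P}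

/-- A root subgroup. -/
noncomputable def X (S : Seed ν φ ψ) (r : Rt m) : Subgroup P :=
  ({ toFun := fun t => x φ ψ r.1.1 r.1.2 (Multiplicative.toAdd t)
     map_one' := S.x_zero _ _
     map_mul' := fun s t => S.x_add _ _ _ _ } : Multiplicative F →* P).range

theorem mem_X (S : Seed ν φ ψ) {r : Rt m} {z : P} :
    z ∈ S.X r ↔ ∃ t, x φ ψ r.1.1 r.1.2 t = z :=
  ⟨fun ⟨t, ht⟩ => ⟨Multiplicative.toAdd t, ht⟩, fun ⟨t, ht⟩ => ⟨Multiplicative.ofAdd t, ht⟩⟩

theorem map_X (S : Seed ν φ ψ) {n : P} {π : Equiv.Perm (Fin m ⊕ Fin m)} (h : Maps φ ψ n π)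
    (r : Rt m) : (S.X r).map (MulAut.conj n).toMonoidHom = S.X (rperm π r) := by
  obtain ⟨c, hc⟩ := h _ _ r.2
  ext z
  rw [Subgroup.mem_map, S.mem_X]
  constructor
  · rintro ⟨y, hy, rfl⟩
    obtain ⟨t, rfl⟩ := S.mem_X.1 hy
    exact ⟨(c : F) * t, (hc t).symm⟩
  · rintro ⟨t, rfl⟩
    refine ⟨_, S.mem_X.2 ⟨((c⁻¹ : Fˣ) : F) * t, rfl⟩, ?_⟩
    show n * _ * n⁻¹ = _
    rw [hc, ← mul_assoc, Units.mul_inv, one_mul]
    rfl

theorem X_twin (S : Seed ν φ ψ) {r r' : Rt m} (i j : Fin m) (hr : r.1 = (.inr i, .inr j))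
    (hr' : r'.1 = (.inl j, .inl i)) : S.X r = S.X r' := by
  ext z
  rw [S.mem_X, S.mem_X, hr, hr']
  constructor
  · rintro ⟨t, rfl⟩; exact ⟨-t, rfl⟩
  · rintro ⟨t, rfl⟩; exact ⟨-t, by simp [x]⟩

theorem inl_dM (S : Seed ν φ ψ) (a : Fˣ) (i : Fin m) (q : Fin m ⊕ Fin m) (hq : Sum.inl i ≠ q) :
    ∃ c : Fˣ, ∀ t, ψ (dM a) * x φ ψ (.inl i) q t * (ψ (dM a))⁻¹ =
      x φ ψ ((1 : Equiv.Perm (Fin m ⊕ Fin m)) (.inl i)) ((1 : Equiv.Perm (Fin m ⊕ Fin m)) q)
        ((c : F) * t) := by
  simp only [Equiv.Perm.coe_one, id_eq]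
  have fix : ∀ {X : P}, Commute (ψ (dM a)) X → ψ (dM a) * X * (ψ (dM a))⁻¹ = X := fun h => by
    rw [h.eq, mul_inv_cancel_right]
  have hM : ∀ {j : Fin m}, j ≠ i0 m → ∀ t : F,
      ψ (dM a) * M φ ψ (bv (i0 m)) (bv j) t * (ψ (dM a))⁻¹ =
        M φ ψ (bv (i0 m)) (bv j) ((a : F) * t) := by
    intro j hj t
    rw [S.M0_eq hj, S.M0_eq hj]
    have hw : (ψ wM)⁻¹ * ψ (dM a) * ψ wM = ψ (dM a⁻¹) := by
      rw [← map_inv, ← map_mul, ← map_mul, wM_inv_conj_dM]
    calc _ = ψ wM * (((ψ wM)⁻¹ * ψ (dM a) * ψ wM) * φ (tx j (i0 m) (-t)) *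
          ((ψ wM)⁻¹ * ψ (dM a) * ψ wM)⁻¹) * (ψ wM)⁻¹ := by group
      _ = _ := by rw [hw, S.h_Xj0 hj, inv_inv, mul_neg]
  rcases q with j | j
  · have hij : i ≠ j := fun e => hq (by rw [e])
    by_cases hi : i = i0 m
    · subst hi
      refine ⟨a, fun t => ?_⟩
      simp only [x]
      have h := S.dual.h_Xj0 hij.symm a⁻¹ (-t)
      rw [MonoidHom.comp_apply, MonoidHom.comp_apply, MonoidHom.comp_apply, δ2_dM,
        show (dM a⁻¹ : SL(2, F))⁻¹ = dM a by rw [show dM a⁻¹ = (dM a)⁻¹ from map_inv dHom a, inv_inv],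
        invT_tx hij.symm, invT_tx hij.symm, inv_inv, neg_neg, mul_neg, neg_neg] at h
      exact h
    · by_cases hj : j = i0 m
      · subst hj
        refine ⟨a⁻¹, fun t => ?_⟩
        simp only [x]
        exact S.h_Xj0 hi a t
      · refine ⟨1, fun t => ?_⟩
        rw [Units.val_one, one_mul]
        simp only [x]
        exact fix (S.stab_tx hij hi hj t _).symm
  · by_cases hij : i = j
    · subst hij
      by_cases hi : i = i0 m
      · subst hi
        refine ⟨a ^ 2, fun t => ?_⟩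
        simp only [x, if_pos]
        rw [S.L_bv0, S.L_bv0, ← map_inv, ← map_mul, ← map_mul, dM_conj_uM, Units.val_pow_eq_pow_val]
      · refine ⟨1, fun t => ?_⟩
        rw [Units.val_one, one_mul]
        simp only [x, if_pos]
        exact fix (S.psi_w_commute_L hi _ t)
    · by_cases hi : i = i0 m
      · subst hi
        refine ⟨a, fun t => ?_⟩
        simp only [x, if_neg hij]
        exact hM (Ne.symm hij) t
      · by_cases hj : j = i0 m
        · subst hj
          refine ⟨a, fun t => ?_⟩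
          simp only [x, if_neg hij]
          rw [S.M_comm_vec, hM hi t, S.M_comm_vec]
        · refine ⟨1, fun t => ?_⟩
          rw [Units.val_one, one_mul]
          simp only [x, if_neg hij]
          exact fix (S.psi_w_commute_M hij hi hj _ t)

theorem maps_dM_wM (S : Seed ν φ ψ) (a : Fˣ) :
    Maps φ ψ (ψ (dM a * wM)) (Equiv.swap (.inl (i0 m)) (.inr (i0 m))) := by
  have hd : Maps φ ψ (ψ (dM a)) 1 := by
    refine S.maps_of_inl (fun p => rfl) (S.inl_dM a) fun i q hq => ?_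
    obtain ⟨c, hc⟩ := S.dual.inl_dM a⁻¹ i q hq
    refine ⟨c, fun t => ?_⟩
    have := hc t
    rwa [MonoidHom.comp_apply, δ2_dM, show (dM a⁻¹ : SL(2, F))⁻¹ = dM a by
      rw [show dM a⁻¹ = (dM a)⁻¹ from map_inv dHom a, inv_inv]] at this
  intro p q hpq
  obtain ⟨c, hc⟩ := S.maps_wM p q hpq
  obtain ⟨d, hd'⟩ := hd _ _ ((Equiv.swap (Sum.inl (i0 m)) (Sum.inr (i0 m))).injective.ne hpq)
  refine ⟨d * c, fun t => ?_⟩
  have e := hd' ((c : F) * t)
  simp only [Equiv.Perm.coe_one, id_eq] at e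
  rw [map_mul, Units.val_mul, mul_assoc (d : F), ← e, ← hc]
  group

/-- The Weyl representatives for a simple root. -/
noncomputable def W (_S : Seed ν φ ψ) (i : Fin m) : Set P :=
  if h : (i : ℕ) = 0 then Set.range fun a : Fˣ => ψ (dM a * wM)
  else Set.range fun a : Fˣ =>
    φ (emb (show i ≠ prv i by simp [prv, Fin.ext_iff]; omega) (dM a * wM))

theorem ranges_le (S : Seed ν φ ψ) :
    φ.range ⊔ ψ.range ≤ ⨆ i, S.X (simpleRoot i) ⊔ S.X (rneg (simpleRoot i)) := by
  set H := ⨆ i, S.X (simpleRoot i) ⊔ S.X (rneg (simpleRoot i))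
  have hpos : ∀ i, S.X (simpleRoot i) ≤ H := fun i => le_iSup_of_le i le_sup_left
  have hneg : ∀ i, S.X (rneg (simpleRoot i)) ≤ H := fun i => le_iSup_of_le i le_sup_right
  have hz : (i0 m : Fin m).val = 0 := rfl
  have hK : ∀ t, ψ (tx (0 : Fin 2) 1 t) ∈ H ∧ ψ (tx (1 : Fin 2) 0 t) ∈ H := by
    intro t
    refine ⟨hpos (i0 m) (S.mem_X.2 ⟨t, ?_⟩), hneg (i0 m) (S.mem_X.2 ⟨t, ?_⟩)⟩
    · simp only [simpleRoot, hz, dite_true, x, if_pos]
      rw [S.L_bv0, ShortPres.uM_eq_tx]
    · simp only [simpleRoot, hz, dite_true, rneg, x, if_pos]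
      rw [S.dual.L_bv0, MonoidHom.comp_apply, δ2_uM, neg_neg]
  have hstep : ∀ d : ℕ, ∀ i j : Fin m, (i : ℕ) = j + (d + 1) → ∀ t,
      φ (tx i j t) ∈ H ∧ φ (tx j i t) ∈ H := by
    intro d
    induction d with
    | zero =>
      intro i j hij t
      have hi : ¬ (i : ℕ) = 0 := by omega
      have hp : prv i = j := Fin.ext (by simp [prv]; omega)
      refine ⟨hpos i (S.mem_X.2 ⟨t, ?_⟩), hneg i (S.mem_X.2 ⟨t, ?_⟩)⟩
      · simp only [simpleRoot, hi, dite_false, x, hp]
      · simp only [simpleRoot, hi, dite_false, rneg, x, hp]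
    | succ d ih =>
      intro i j hij t
      let k : Fin m := ⟨(i : ℕ) - 1, by omega⟩
      have h1 : (k : ℕ) = j + (d + 1) := by simp [k]; omega
      have hik : i ≠ k := by simp [k, Fin.ext_iff]; omega
      have hkj : k ≠ j := by simp [Fin.ext_iff]; omega
      have hij' : i ≠ j := by simp [Fin.ext_iff]; omega
      have hp : prv i = k := rfl
      have hi : ¬ (i : ℕ) = 0 := by omega
      have e1 : ∀ t, φ (tx i k t) ∈ H := fun t => hpos i (S.mem_X.2 ⟨t, by
        simp only [simpleRoot, hi, dite_false, x, hp]⟩)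
      have e2 : ∀ t, φ (tx k i t) ∈ H := fun t => hneg i (S.mem_X.2 ⟨t, by
        simp only [simpleRoot, hi, dite_false, rneg, x, hp]⟩)
      constructor
      · rw [← mul_one t, ← tx_rel hik hkj hij', map_commutatorElement, commutatorElement_def]
        exact mul_mem (mul_mem (mul_mem (e1 _) (ih k j h1 _).1) (inv_mem (e1 _)))
          (inv_mem (ih k j h1 _).1)
      · rw [← mul_one t, ← tx_rel hkj.symm hik.symm hij'.symm, map_commutatorElement,
          commutatorElement_def]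
        exact mul_mem (mul_mem (mul_mem (ih k j h1 _).2 (e2 _)) (inv_mem (ih k j h1 _).2))
          (inv_mem (e2 _))
  refine sup_le ?_ ?_
  · rintro _ ⟨g, rfl⟩
    have : (⊤ : Subgroup (SpecialLinearGroup (Fin m) F)) ≤ H.comap φ := by
      refine (Classical.sl_eq_top_of_transvection _ fun i j hij c => ?_).ge
      rw [← tx_eq hij, Subgroup.mem_comap]
      rcases lt_or_gt_of_ne (Fin.val_ne_of_ne hij) with h | h
      · exact (hstep ((j : ℕ) - i - 1) j i (by omega) c).2
      · exact (hstep ((i : ℕ) - j - 1) i j (by omega) c).1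
    exact this (Subgroup.mem_top g)
  · rintro _ ⟨s, rfl⟩
    have : (⊤ : Subgroup SL(2, F)) ≤ H.comap ψ := by
      refine (Classical.sl_eq_top_of_transvection _ fun i j hij c => ?_).ge
      rw [← tx_eq hij, Subgroup.mem_comap]
      fin_cases i <;> fin_cases j
      · exact absurd rfl hij
      · exact (hK c).1
      · exact (hK c).2
      · exact absurd rfl hij
    exact this (Subgroup.mem_top s)

theorem V_one_le (S : Seed ν φ ψ) : V rht S.X 1 ≤ S.Ppos := by
  refine V_le fun r hr z hz => ?_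
  obtain ⟨⟨p, q⟩, hpq⟩ := r
  obtain ⟨t, rfl⟩ := S.mem_X.1 hz
  rcases p with i | i <;> rcases q with j | j
  · refine Subgroup.mem_sup_right ⟨_, tx_mem_Tlow (show j < i from ?_) t, rfl⟩
    simp [rht, wt] at hr
    omega
  · exact Subgroup.mem_sup_left (Subgroup.subset_closure ⟨(i, j, t), rfl⟩)
  · simp [rht, wt] at hr
    omega
  · refine Subgroup.mem_sup_right ⟨_, tx_mem_Tlow (show i < j from ?_) (-t), rfl⟩
    simp [rht, wt] at hr
    omega

/-- Monomial elements have a normal form. -/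
theorem closure_W (S : Seed ν φ ψ) {n : P} (hn : n ∈ Subgroup.closure (⋃ i, S.W i)) :
    ∃ (f : Fin m → SL(2, F)) (g : SpecialLinearGroup (Fin m) F) (σ : Equiv.Perm (Fin m))
      (d : Fin m → Fˣ), (∀ i, Mono2 (f i)) ∧ IsMono g σ d ∧ n = S.Kpi f * φ g := by
  have htw : ∀ (c : Fˣ) {s : SL(2, F)}, Mono2 s → Mono2 (twist c s) := fun c s hs =>
    ((Mono2.dM c).mul hs).mul (Mono2.dM c).inv
  induction hn using Subgroup.closure_induction with
  | one => exact ⟨1, 1, 1, 1, fun _ => Mono2.one, IsMono.one, by simp⟩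
  | mem z hz =>
    obtain ⟨i, hi⟩ := Set.mem_iUnion.1 hz
    unfold W at hi
    split at hi
    · obtain ⟨a, rfl⟩ := hi
      refine ⟨Pi.mulSingle (i0 m) (dM a * wM), 1, 1, 1, fun k => ?_, IsMono.one, ?_⟩
      · by_cases hk : k = i0 m
        · subst hk
          rw [Pi.mulSingle_eq_same]
          exact (Mono2.dM a).mul (Or.inr (by simp [wM_coe]))
        · rw [Pi.mulSingle_eq_of_ne hk]; exact Mono2.one
      · rw [map_one, mul_one, S.Kpi_single, S.K_zero]
    · obtain ⟨a, rfl⟩ := hi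
      refine ⟨1, _, _, _, fun _ => Mono2.one,
        emb_mono (show i ≠ prv i by simp [prv, Fin.ext_iff]; omega) a, by simp⟩
  | mul p q _ _ hp hq =>
    obtain ⟨f, g, σ, d, hf, hg, rfl⟩ := hp
    obtain ⟨f', g', σ', d', hf', hg', rfl⟩ := hq
    refine ⟨f * fun r => twist (d (σ.symm r)) (f' (σ.symm r)), g * g', _, _,
      fun r => (hf r).mul (htw _ (hf' _)), hg.mul hg', ?_⟩
    rw [map_mul, map_mul, ← S.conj_Kpi hg f']
    group
  | inv p _ hp =>
    obtain ⟨f, g, σ, d, hf, hg, rfl⟩ := hp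
    refine ⟨fun r => twist ((d (σ⁻¹ (σ⁻¹.symm r)))⁻¹) ((f (σ⁻¹.symm r))⁻¹), g⁻¹, _, _,
      fun r => htw _ (hf _).inv, hg.inv, ?_⟩
    rw [← S.conj_Kpi hg.inv fun r => (f r)⁻¹, show (fun r => (f r)⁻¹) = f⁻¹ from rfl, map_inv φ, map_inv S.Kpi]
    group

theorem injective (S : Seed ν φ ψ) {σ : P →* Sp F m} (D : Model σ φ ψ)
    (hP : φ.range ⊔ ψ.range = ⊤) : Function.Injective σ := by
  refine (MonoidHom.ker_eq_bot_iff σ).1 ((Subgroup.eq_bot_iff_forall _).2 ?_)
  refine inj_of_UNU σ rht rht_ne rneg rht_neg S.X simpleRoot rht_simple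
    (fun i => rperm (simplePerm i)) (fun i r => rfl) ?_ ?_ S.W ?_ ?_ ?_ ?_ ?_ ?_ ?_ ?_
  · intro i
    congr 1
    apply Subtype.ext
    by_cases h : (i : ℕ) = 0 <;> simp [rperm, simplePerm, simpleRoot, rneg, h]
  · intro i
    congr 1
    apply Subtype.ext
    by_cases h : (i : ℕ) = 0 <;> simp [rperm, simplePerm, simpleRoot, rneg, h]
  · intro i n hn r
    refine S.map_X ?_ r
    unfold W at hn
    split at hn
    · next h =>
      obtain ⟨a, rfl⟩ := hn
      rw [simplePerm, if_pos h, show i = i0 m from Fin.ext h]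
      exact S.maps_dM_wM a
    · next h =>
      obtain ⟨a, rfl⟩ := hn
      rw [simplePerm, if_neg h]
      exact S.maps_mono (emb_mono _ a)
  · intro i r hr
    obtain ⟨⟨p, q⟩, hpq⟩ := r
    have hne : wt p ≠ wt q := fun e => hpq (wt_injective e)
    change 2 ≤ (wt p - wt q) / 2 at hr
    show 0 < (wt (simplePerm i p) - wt (simplePerm i q)) / 2
    rw [wt_perm, wt_perm]
    obtain ⟨a, ha⟩ := wt_odd p
    obtain ⟨b, hb⟩ := wt_odd q
    split_ifs <;> omega
  · intro i r hr hr'
    obtain ⟨⟨p, q⟩, hpq⟩ := r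
    have hne : wt p ≠ wt q := fun e => hpq (wt_injective e)
    have hne' : wt (simplePerm i p) ≠ wt (simplePerm i q) := fun e =>
      hpq ((simplePerm i).injective (wt_injective e))
    change 0 < (wt p - wt q) / 2 at hr
    change ¬ 0 < (wt (simplePerm i p) - wt (simplePerm i q)) / 2 at hr'
    rw [wt_perm, wt_perm] at hr' hne'
    obtain ⟨a, ha⟩ := wt_odd p
    obtain ⟨b, hb⟩ := wt_odd q
    by_cases h : (i : ℕ) = 0
    · have e : wt p = wt (.inl i : Fin m ⊕ Fin m) ∧ wt q = wt (.inr i : Fin m ⊕ Fin m) := by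
        simp only [if_pos h] at hr' hne'
        rw [show wt (Sum.inl i : Fin m ⊕ Fin m) = 2 * ((i : ℕ) : ℤ) + 1 from rfl,
          show wt (Sum.inr i : Fin m ⊕ Fin m) = -(2 * ((i : ℕ) : ℤ) + 1) from rfl]
        split_ifs at hr' hne' <;> omega
      obtain rfl := wt_injective e.1
      obtain rfl := wt_injective e.2
      congr 1
      simp [simpleRoot, h]
    · have hp : ((prv i : Fin m) : ℕ) = (i : ℕ) - 1 := rfl
      have e : (wt p = wt (.inl i : Fin m ⊕ Fin m) ∧ wt q = wt (.inl (prv i) : Fin m ⊕ Fin m)) ∨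
          (wt p = wt (.inr (prv i) : Fin m ⊕ Fin m) ∧ wt q = wt (.inr i : Fin m ⊕ Fin m)) := by
        simp only [if_neg h] at hr' hne'
        rw [show wt (Sum.inl i : Fin m ⊕ Fin m) = 2 * ((i : ℕ) : ℤ) + 1 from rfl,
          show wt (Sum.inr i : Fin m ⊕ Fin m) = -(2 * ((i : ℕ) : ℤ) + 1) from rfl,
          show wt (Sum.inl (prv i) : Fin m ⊕ Fin m) = 2 * ((prv i : ℕ) : ℤ) + 1 from rfl,
          show wt (Sum.inr (prv i) : Fin m ⊕ Fin m) = -(2 * ((prv i : ℕ) : ℤ) + 1) from rfl, hp]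
        split_ifs at hr' hne' <;> omega
      rcases e with ⟨e1, e2⟩ | ⟨e1, e2⟩
      · obtain rfl := wt_injective e1
        obtain rfl := wt_injective e2
        congr 1
        simp [simpleRoot, h]
      · obtain rfl := wt_injective e1
        obtain rfl := wt_injective e2
        refine S.X_twin (prv i) i rfl ?_
        simp [simpleRoot, h]
  · intro i z hz
    obtain ⟨t, rfl⟩ := S.mem_X.1 hz
    rcases eq_or_ne t 0 with rfl | ht
    · exact Or.inl (S.x_zero _ _)
    refine Or.inr ?_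
    by_cases h : (i : ℕ) = 0
    · have hi : i = i0 m := Fin.ext h
      subst hi
      have hu : x φ ψ (simpleRoot (i0 m)).1.1 (simpleRoot (i0 m)).1.2 t⁻¹ = ψ (uM t⁻¹) := by
        simp [simpleRoot, h, x, S.L_bv0]
      refine ⟨_, S.mem_X.2 ⟨t⁻¹, hu⟩, ψ (dM (-(Units.mk0 t ht)⁻¹) * wM), ?_, _,
        S.mem_X.2 ⟨t⁻¹, hu⟩, ?_⟩
      · rw [W, dif_pos h]; exact ⟨_, rfl⟩
      · rw [← map_mul, ← map_mul, ← lo_decomp t ht]
        simp [simpleRoot, h, rneg, x, S.dual.L_bv0, δ2_uM]
    · have hne : i ≠ prv i := by simp [prv, Fin.ext_iff]; omega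
      have hu : x φ ψ (simpleRoot i).1.1 (simpleRoot i).1.2 t⁻¹ = φ (emb hne (uM t⁻¹)) := by
        rw [ShortPres.uM_eq_tx, emb_tx01]
        simp [simpleRoot, h, x]
      refine ⟨_, S.mem_X.2 ⟨t⁻¹, hu⟩, φ (emb hne (dM (-(Units.mk0 t ht)⁻¹) * wM)), ?_, _,
        S.mem_X.2 ⟨t⁻¹, hu⟩, ?_⟩
      · rw [W, dif_neg h]; exact ⟨_, rfl⟩
      · rw [← map_mul, ← map_mul, ← map_mul, ← map_mul, ← lo_decomp t ht, emb_tx10]
        simp [simpleRoot, h, rneg, x]
  · intro i r hr z hz y hy
    set T := V rht S.X 2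
    have hT : ∀ a : Fin m, (a : ℕ) ≠ 0 → ∀ k s, x φ ψ (.inl a) (.inr k) s ∈ T := by
      intro a ha k s
      refine le_V (r := ⟨(.inl a, .inr k), by simp⟩) ?_ (S.mem_X.2 ⟨s, rfl⟩)
      simp [rht, wt]; omega
    have hTt : ∀ a b : Fin m, (b : ℕ) + 2 ≤ a → ∀ s, φ (tx a b s) ∈ T := by
      intro a b hab s
      refine le_V (r := ⟨(.inl a, .inl b), by simp [Fin.ext_iff]; omega⟩) ?_ (S.mem_X.2 ⟨s, rfl⟩)
      simp [rht, wt]; omega
    have htriv : ∀ {a b : P}, Commute a b → ⁅a, b⁆ ∈ T := fun h => by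
      rw [commutatorElement_eq_one_iff_commute.2 h]; exact one_mem T
    have levi : ∀ k l : Fin m, l < k → ∀ t, ⁅z, φ (tx k l t)⁆ ∈ T := by
      intro k l hlk t
      obtain ⟨c, rfl⟩ := S.mem_X.1 hz
      have hkl : k ≠ l := hlk.ne'
      by_cases h : (i : ℕ) = 0
      · simp only [simpleRoot, h, dite_true, x, if_pos]
        have := inv_mem (S.comm_mem hkl t i i c T (hT k (by omega)))
        rw [commutatorElement_inv] at this
        simpa [x] using this
      · simp only [simpleRoot, h, dite_false, x]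
        have hne : i ≠ prv i := by simp [prv, Fin.ext_iff]; omega
        rw [← map_commutatorElement]
        by_cases hk : k = prv i
        · subst hk
          have hil : i ≠ l := fun e => by
            rw [← e, Fin.lt_def] at hlk; simp only [prv] at hlk; omega
          rw [tx_rel hne hkl hil]
          exact hTt _ _ (by rw [Fin.lt_def] at hlk; simp only [prv] at hlk; omega) _
        · by_cases hl : l = i
          · subst hl
            have hkp : k ≠ prv l := hk
            rw [← commutatorElement_inv, tx_rel hkl hne hkp, map_inv]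
            exact inv_mem (hTt _ _ (by rw [Fin.lt_def] at hlk; simp only [prv]; omega) _)
          · rw [map_commutatorElement]
            exact htriv ((tx_comm hne hkl (Ne.symm hk) (Ne.symm hl) c t).map φ)
    obtain ⟨⟨p, q⟩, hpq⟩ := r
    obtain ⟨t, rfl⟩ := S.mem_X.1 hy
    rcases p with k | k <;> rcases q with l | l
    · simp [rht, wt] at hr
      exact levi k l (Fin.lt_def.2 (by omega)) t
    · obtain ⟨c, rfl⟩ := S.mem_X.1 hz
      by_cases h : (i : ℕ) = 0
      · simp only [simpleRoot, h, dite_true]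
        exact htriv (S.UA_comm _ (Subgroup.subset_closure ⟨(i, i, c), rfl⟩) _
          (Subgroup.subset_closure ⟨(k, l, t), rfl⟩))
      · simp only [simpleRoot, h, dite_false]
        exact S.comm_mem (show i ≠ prv i by simp [prv, Fin.ext_iff]; omega) c k l t T (hT i h)
    · simp [rht, wt] at hr
      omega
    · simp [rht, wt] at hr
      exact levi l k (Fin.lt_def.2 (by omega)) (-t)
  · exact le_antisymm le_top (hP ▸ S.ranges_le)
  · intro n hn hσ
    obtain ⟨f, g, π, d, hf, hg, rfl⟩ := S.closure_W hn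
    obtain ⟨w, hw, hwe⟩ := hσ
    obtain ⟨u, hu, g', hg', rfl⟩ := S.mem_Ppos (S.V_one_le hw)
    obtain ⟨Z, hZ, hZ'⟩ := S.UA_model D hu
    have e := congrArg Subtype.val hwe
    simp only [map_mul, D.phi, D.Kpi_lev S, coe_mul', hZ, diagBlock_coe, levAll_coe, upM,
      fromBlocks_multiply, mul_zero, zero_mul, add_zero, zero_add, one_mul, fromBlocks_inj] at e
    obtain ⟨e11, e12, e21, -⟩ := e
    have hgu : IsUnit g.1 := (Matrix.isUnit_iff_isUnit_det _).2 (by rw [g.2]; exact isUnit_one)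
    have hc : ∀ i, (f i).1 1 0 = 0 := fun i => by
      have h0 : diagonal (fun i => (f i).1 1 0) = 0 := by
        have := congrArg (fun M => M * (g⁻¹).1) e21.symm
        simp only [mul_assoc, sl_mul_inv, mul_one, zero_mul] at this
        exact this
      simpa using congrFun (congrFun h0 i) i
    have hfd : ∀ i, (f i).1 0 1 = 0 ∧ (f i).1 0 0 ≠ 0 := fun i => by
      have hdet : (f i).1 0 0 * (f i).1 1 1 - (f i).1 0 1 * (f i).1 1 0 = 1 := by
        rw [← det_fin_two]; exact (f i).2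
      rw [hc i, mul_zero, sub_zero] at hdet
      rcases hf i with ⟨a, -⟩ | ⟨a, -⟩
      · exact ⟨a, left_ne_zero_of_mul_eq_one hdet⟩
      · rw [a, zero_mul] at hdet
        exact absurd hdet zero_ne_one
    have hb : diagonal (fun i => (f i).1 0 1) = 0 := by
      rw [show (fun i => (f i).1 0 1) = fun _ : Fin m => (0 : F) from funext fun i => (hfd i).1,
        diagonal_zero]
    rw [hb, zero_mul] at e12
    have hZ0 : Z = 0 := by
      have := congrArg (fun M => M * g'.1ᵀ) e12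
      simp only [zero_mul, invT_coe, mul_assoc, ← transpose_mul, sl_mul_inv, transpose_one,
        mul_one] at this
      exact this
    obtain rfl := hZ' hZ0
    have hπ : π = 1 := by
      refine Equiv.ext fun r => ?_
      by_contra hr
      have h1 := congrFun (congrFun e11 r) r
      rw [hg' r r le_rfl, if_pos rfl, diagonal_mul] at h1
      have hcol := congrFun (hg r) r
      simp only [bv, mulVec_single, MulOpposite.op_one, one_smul, Matrix.col_apply, Pi.smul_apply,
        smul_eq_mul] at hcol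
      rw [hcol, Pi.single_eq_of_ne (show r ≠ π r from fun h => hr h.symm), mul_zero, mul_zero] at h1
      exact one_ne_zero h1
    subst hπ
    have hk := S.tor_eq hg
    set h := f * fun i => dM (d i) with hh
    have hn' : S.Kpi f * φ g = S.Kpi h := by rw [hk, ← map_mul]
    have hg'1 : g' = 1 := by
      refine Subtype.ext ?_
      ext r c
      have h1 := congrFun (congrFun e11 r) c
      rw [diagonal_mul] at h1
      by_cases hrc : r = c
      · subst hrc
        rw [hg' r r le_rfl]; simp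
      · rcases lt_or_gt_of_ne hrc with h' | h'
        · rw [hg' r c h'.le, if_neg hrc]; simp [hrc]
        · have hcol := congrFun (hg c) r
          simp only [bv, mulVec_single, MulOpposite.op_one, one_smul, Matrix.col_apply,
            Pi.smul_apply, smul_eq_mul, Equiv.Perm.coe_one, id_eq] at hcol
          rw [hcol, Pi.single_eq_of_ne hrc, mul_zero, mul_zero] at h1
          rw [h1]; simp [hrc]
    have hσ1 : σ (S.Kpi h) = 1 := by
      rw [← hn', ← hwe, hg'1, map_one, mul_one, map_one]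
    rw [D.Kpi_lev S, ← map_one levAll] at hσ1
    rw [hn', levAll_injective hσ1, map_one]
  · intro z hz hσ
    obtain ⟨u, hu, g, hg, rfl⟩ := S.mem_Ppos (S.V_one_le hz)
    obtain ⟨Z, hZ, hZ'⟩ := S.UA_model D hu
    have e := congrArg Subtype.val hσ
    rw [map_mul, coe_mul', D.phi, hZ, coe_one', diagBlock_coe, upM, fromBlocks_multiply,
      ← fromBlocks_one, fromBlocks_inj] at e
    simp only [mul_zero, zero_mul, add_zero, zero_add, one_mul] at e
    have hg1 : g = 1 := Subtype.ext e.1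
    subst hg1
    have h2 := e.2.1
    rw [map_one, Matrix.SpecialLinearGroup.coe_one, mul_one] at h2
    rw [hZ' h2, map_one, mul_one]

end Seed

end Cfsg.Agent.SpShortPres
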