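import Cfsg.Agent.SpShortPres.LongRoot

/-!
# Long root `SL(2, F)` at every level and the monomial subgroup
-/

set_option autoImplicit false

namespace Cfsg.Agent.SpShortPres

open Matrix Cfsg.Agent.SL2Pres Cfsg.Agent.SLMult Cfsg.Agent.CurtisTitsA
open scoped MatrixGroups commutatorElement

universe u v

variable {F : Type u} [Field F] [Fintype F] {m : ℕ} [hm : Fact (3 ≤ m)] {P : Type v} [Group P]

/-- `g e_j = d_j e_{σ j}`. -/
def IsMono (g : SpecialLinearGroup (Fin m) F) (σ : Equiv.Perm (Fin m)) (d : Fin m → Fˣ) : Prop :=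
  ∀ j, g.1 *ᵥ bv j = (d j : F) • bv (σ j)

theorem monoMat_isMono (σ : Equiv.Perm (Fin m)) (d : Fin m → Fˣ)
    (h : ((Equiv.Perm.sign σ : ℤ) : F) * ∏ i, (d i : F) = 1) : IsMono (monoMat σ d h) σ d := fun j => by
  rw [bv, monoMat_single, bv, ← Pi.single_smul, smul_eq_mul, mul_one]

theorem IsMono.mul {g h : SpecialLinearGroup (Fin m) F} {σ τ : Equiv.Perm (Fin m)}
    {d e : Fin m → Fˣ} (hg : IsMono g σ d) (hh : IsMono h τ e) :
    IsMono (g * h) (σ * τ) fun j => d (τ j) * e j := fun j => by
  rw [Matrix.SpecialLinearGroup.coe_mul, ← mulVec_mulVec, hh, mulVec_smul, hg, smul_smul,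
    Units.val_mul, mul_comm]
  rfl

theorem IsMono.inv {g : SpecialLinearGroup (Fin m) F} {σ : Equiv.Perm (Fin m)} {d : Fin m → Fˣ}
    (hg : IsMono g σ d) : IsMono g⁻¹ σ⁻¹ fun j => (d (σ⁻¹ j))⁻¹ := fun j => by
  have h := mulVec_inv (hg (σ⁻¹ j))
  rw [mulVec_smul, show σ (σ⁻¹ j) = j by simp] at h
  rw [← h, smul_smul, Units.inv_mul, one_smul]

theorem IsMono.one : IsMono (1 : SpecialLinearGroup (Fin m) F) 1 1 := fun j => by simp

theorem IsMono.row {g : SpecialLinearGroup (Fin m) F} {σ : Equiv.Perm (Fin m)} {d : Fin m → Fˣ}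
    (hg : IsMono g σ d) (j : Fin m) : bv (σ j) ᵥ* g.1 = (d j : F) • bv j := by
  funext r
  have := congrFun (hg r) (σ j)
  simp only [bv, mulVec_single, MulOpposite.op_one, one_smul, Matrix.col_apply] at this
  simp only [bv, single_vecMul, one_smul, Matrix.row_apply, this, Pi.smul_apply, smul_eq_mul]
  by_cases h : r = j
  · subst h; simp
  · simp [h, Ne.symm h, σ.injective.ne h]

theorem IsMono.invT {g : SpecialLinearGroup (Fin m) F} {σ : Equiv.Perm (Fin m)} {d : Fin m → Fˣ}
    (hg : IsMono g σ d) : IsMono (SpShortPres.invT g) σ fun j => (d j)⁻¹ := fun j => by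
  rw [invT_coe, mulVec_transpose]
  have h := vecMul_inv (hg.row j)
  rw [smul_vecMul] at h
  rw [← h, smul_smul, Units.inv_mul, one_smul]

theorem IsMono.ext {g h : SpecialLinearGroup (Fin m) F} {σ : Equiv.Perm (Fin m)} {d : Fin m → Fˣ}
    (hg : IsMono g σ d) (hh : IsMono h σ d) : g = h :=
  mulVec_single_inj fun j => (hg j).trans (hh j).symm

theorem s01_isMono :
    IsMono (s01 : SpecialLinearGroup (Fin m) F) (Equiv.swap (i0 m) (i1 m))
      (Function.update 1 (i1 m) (-1)) := by
  intro j
  have hw : (wM⁻¹ : SL(2, F)).1 = !![0, -1; 1, 0] := by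
    rw [Matrix.SpecialLinearGroup.coe_inv, adjugate_fin_two, wM_coe]
    simp
  obtain ⟨e1, e2, e3⟩ := emb_act (F := F) (h01 (m := m)) wM⁻¹ (bv j)
  funext r
  show ((emb h01 wM⁻¹).1 *ᵥ bv j) r = _
  rcases eq_or_ne j (i0 m) with rfl | j0
  · rw [Equiv.swap_apply_left, Function.update_of_ne h01]
    by_cases r0 : r = i0 m
    · rw [r0, e1, hw]; simp [bv, h01, h01.symm]
    by_cases r1 : r = i1 m
    · rw [r1, e2, hw]; simp [bv, h01, h01.symm]
    rw [e3 r r0 r1]; simp [bv, r0, r1]
  rcases eq_or_ne j (i1 m) with rfl | j1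
  · rw [Equiv.swap_apply_right, Function.update_self]
    by_cases r0 : r = i0 m
    · rw [r0, e1, hw]; simp [bv, h01, h01.symm]
    by_cases r1 : r = i1 m
    · rw [r1, e2, hw]; simp [bv, h01, h01.symm]
    rw [e3 r r0 r1]; simp [bv, r0, r1]
  rw [Equiv.swap_apply_of_ne_of_ne j0 j1, Function.update_of_ne j1]
  by_cases r0 : r = i0 m
  · rw [r0, e1, hw]; simp [bv, j1.symm, j0.symm]
  by_cases r1 : r = i1 m
  · rw [r1, e2, hw]; simp [bv, j1.symm, j0.symm]
  rw [e3 r r0 r1]; simp [bv]

/-- Signs for the monomial element moving the first index to `i`. -/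
def moveSign (i : Fin m) : Fin m → Fˣ :=
  if i = i0 m then 1 else Function.update 1 i (-1)

theorem moveSign_det (i : Fin m) :
    ((Equiv.Perm.sign (Equiv.swap (i0 m) i) : ℤ) : F) * ∏ j, ((moveSign i j : Fˣ) : F) = 1 := by
  by_cases h : i = i0 m
  · subst h; simp [moveSign]
  · rw [Equiv.Perm.sign_swap (Ne.symm h), moveSign, if_neg h,
      Finset.prod_eq_single i (fun j _ hj => by simp [hj]) (by simp)]
    simp

/-- The monomial element moving the first index to `i`. -/
def gi (i : Fin m) : SpecialLinearGroup (Fin m) F :=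
  monoMat (Equiv.swap (i0 m) i) (moveSign i) (moveSign_det i)

theorem gi_isMono (i : Fin m) :
    IsMono (gi i : SpecialLinearGroup (Fin m) F) (Equiv.swap (i0 m) i) (moveSign i) :=
  monoMat_isMono _ _ _

theorem invT_gi (i : Fin m) : invT (gi i : SpecialLinearGroup (Fin m) F) = gi i := by
  refine (gi_isMono i).invT.ext ?_
  convert gi_isMono (F := F) i using 1
  funext j
  by_cases h : i = i0 m
  · simp [moveSign, h]
  · by_cases hj : j = i
    · subst hj; simp [moveSign, h]
    · simp [moveSign, h, hj]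

theorem moveSign_zero (i : Fin m) : (moveSign i (i0 m) : Fˣ) = 1 := by
  by_cases h : i = i0 m
  · simp [moveSign, h]
  · simp [moveSign, h, Ne.symm h]

theorem gi_bv (i : Fin m) : (gi i : SpecialLinearGroup (Fin m) F).1 *ᵥ bv (i0 m) = bv i := by
  rw [gi_isMono i (i0 m), Equiv.swap_apply_left, moveSign_zero, Units.val_one, one_smul]

/-- The long root `SL(2, F)` at level `i`. -/
noncomputable def K (φ : SpecialLinearGroup (Fin m) F →* P) (ψ : SL(2, F) →* P) (i : Fin m) :
    SL(2, F) →* P :=
  (MulAut.conj (φ (gi i))).toMonoidHom.comp ψ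

/-- Twist by a diagonal element of rank one. -/
noncomputable def twist (c : Fˣ) (s : SL(2, F)) : SL(2, F) := dM c * s * (dM c)⁻¹

theorem twist_one (s : SL(2, F)) : twist 1 s = s := by
  simp [twist, show dM (1 : Fˣ) = 1 from map_one dHom]

namespace Seed

variable {ν : Fˣ} {φ : SpecialLinearGroup (Fin m) F →* P} {ψ : SL(2, F) →* P}

theorem K_apply (_S : Seed ν φ ψ) (i : Fin m) (s : SL(2, F)) :
    K φ ψ i s = φ (gi i) * ψ s * (φ (gi i))⁻¹ := rfl

theorem K_zero (S : Seed ν φ ψ) (s : SL(2, F)) : K φ ψ (i0 m) s = ψ s := by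
  rw [S.K_apply]
  have : (gi (i0 m) : SpecialLinearGroup (Fin m) F) = 1 := by
    refine (gi_isMono (i0 m)).ext ?_
    convert IsMono.one (F := F) (m := m) using 1
    · simp; rfl
    · simp [moveSign]
  simp [this]

theorem L_bv (S : Seed ν φ ψ) (i : Fin m) (t : F) : L φ ψ (bv i) t = K φ ψ i (uM t) :=
  S.L_eq (gi_bv i) t

theorem Ld_bv (S : Seed ν φ ψ) (i : Fin m) (t : F) :
    L (φ.comp invT) (ψ.comp δ2) (bv i) t = K φ ψ i (δ2 (uM t)) := by
  rw [S.dual.L_eq (gi_bv i) t, MonoidHom.comp_apply, MonoidHom.comp_apply, invT_gi, ← S.K_apply]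

theorem mono_fix (S : Seed ν φ ψ) {g : SpecialLinearGroup (Fin m) F} {σ : Equiv.Perm (Fin m)}
    {d : Fin m → Fˣ} (hg : IsMono g σ d) (h0 : σ (i0 m) = i0 m) (s : SL(2, F)) :
    φ g * ψ s * (φ g)⁻¹ = ψ (twist (d (i0 m)) s) := by
  set c := d (i0 m)
  set H : SpecialLinearGroup (Fin m) F := emb h01 (dM c)
  have hH : ∀ v, H.1 *ᵥ v = fun r => dd (i0 m) (i1 m) (c : F) r * v r := fun v => by
    funext r
    show ((emb h01 (dM c)).1 *ᵥ v) r = _
    rw [ShortPres.emb_dM_coe, mulVec_diagonal]
  have hHm : IsMono H 1 (Function.update (Function.update 1 (i1 m) c⁻¹) (i0 m) c) := fun j => by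
    rw [hH]
    funext r
    by_cases hr : r = j
    · subst hr
      by_cases r0 : r = i0 m
      · subst r0; simp [bv, dd]
      · by_cases r1 : r = i1 m
        · subst r1; simp [bv, dd, r0]
        · simp [bv, dd, r0, r1]
    · simp [bv, hr]
  have hg' := hHm.inv.mul hg
  set g' := H⁻¹ * g
  have e : g = H * g' := by simp [g']
  have hc : Commute (φ g') (ψ s) := by
    refine S.stab g' ?_ ?_ s
    · have := hg' (i0 m)
      simp [h0, c, show (1 : Equiv.Perm (Fin m)).symm (i0 m) = i0 m from rfl] at this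
      simpa [bv] using this
    · have := hg'.row (i0 m)
      simp [h0, c, show (1 : Equiv.Perm (Fin m)).symm (i0 m) = i0 m from rfl] at this
      simpa [bv] using this
  rw [e, map_mul]
  calc _ = φ H * (φ g' * ψ s * (φ g')⁻¹) * (φ H)⁻¹ := by group
    _ = φ H * ψ s * (φ H)⁻¹ := by rw [hc.eq, mul_inv_cancel_right]
    _ = _ := by
      rw [show φ H = φ (emb h01 (dM c)) from rfl, S.h01_eq, twist, map_mul, map_mul, map_inv]
      set K1 := φ s01 * ψ (dM c) * (φ s01)⁻¹
      have hk : Commute (ψ s) K1 := S.lev _ _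
      calc _ = ψ (dM c) * (K1⁻¹ * ψ s) * K1 * (ψ (dM c))⁻¹ := by group
        _ = _ := by rw [← hk.inv_right.eq]; group

theorem K_conj (S : Seed ν φ ψ) {g : SpecialLinearGroup (Fin m) F} {σ : Equiv.Perm (Fin m)}
    {d : Fin m → Fˣ} (hg : IsMono g σ d) (i : Fin m) (s : SL(2, F)) :
    φ g * K φ ψ i s * (φ g)⁻¹ = K φ ψ (σ i) (twist (d i) s) := by
  have h := ((gi_isMono (F := F) (σ i)).inv.mul hg).mul (gi_isMono i)
  have e := S.mono_fix h (by simp) s
  rw [show ((moveSign (σ i) ((Equiv.swap (i0 m) (σ i))⁻¹ (σ (Equiv.swap (i0 m) i (i0 m)))))⁻¹ *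
      d (Equiv.swap (i0 m) i (i0 m)) * moveSign i (i0 m) : Fˣ) = d i by
    simp [moveSign_zero]] at e
  rw [S.K_apply, S.K_apply, ← e, map_mul, map_mul, map_inv]
  group

theorem K_one (S : Seed ν φ ψ) (s : SL(2, F)) :
    K φ ψ (i1 m) s = φ s01 * ψ s * (φ s01)⁻¹ := by
  have := S.K_conj s01_isMono (i0 m) s
  rw [S.K_zero, Equiv.swap_apply_left, Function.update_of_ne h01] at this
  simpa [twist_one] using this.symm

theorem exists_mono_pair {i j : Fin m} (hij : i ≠ j) :
    ∃ (g : SpecialLinearGroup (Fin m) F) (σ : Equiv.Perm (Fin m)) (d : Fin m → Fˣ),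
      IsMono g σ d ∧ σ (i0 m) = i ∧ σ (i1 m) = j ∧ d (i0 m) = 1 ∧ d (i1 m) = 1 := by
  classical
  obtain ⟨σ, hσ⟩ := ShortPres.exists_perm_map ![i0 m, i1 m] ![i, j]
    (by intro a b; fin_cases a <;> fin_cases b <;> simp [h01, h01.symm])
    (by intro a b; fin_cases a <;> fin_cases b <;> simp [hij, hij.symm])
  let s : Fˣ := Units.map (Int.castRingHom F).toMonoidHom (Equiv.Perm.sign σ)
  let d : Fin m → Fˣ := Function.update 1 (i2 m) s
  have hd : ((Equiv.Perm.sign σ : ℤ) : F) * ∏ i, (d i : F) = 1 := by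
    rw [Finset.prod_eq_single (i2 m) (fun i _ hi => by simp [d, hi]) (by simp)]
    simp only [d, Function.update_self, s, Units.coe_map, RingHom.toMonoidHom_eq_coe,
      MonoidHom.coe_coe, Int.coe_castRingHom]
    rw [← Int.cast_mul, ← Units.val_mul, Int.units_mul_self, Units.val_one, Int.cast_one]
  exact ⟨_, σ, d, monoMat_isMono σ d hd, hσ 0, hσ 1, by simp [d, h02], by simp [d, h12]⟩

theorem K_commute (S : Seed ν φ ψ) {i j : Fin m} (hij : i ≠ j) (s t : SL(2, F)) :
    Commute (K φ ψ i s) (K φ ψ j t) := by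
  obtain ⟨g, σ, d, hg, rfl, rfl, d0, d1⟩ := exists_mono_pair (F := F) hij
  have e0 := S.K_conj hg (i0 m) s
  have e1 := S.K_conj hg (i1 m) t
  rw [d0, twist_one] at e0
  rw [d1, twist_one] at e1
  rw [← e0, ← e1, S.K_zero, S.K_one]
  exact (S.lev s t).map (MulAut.conj (φ g)).toMonoidHom

/-- The product of the long root `SL(2, F)` at all levels. -/
noncomputable def Kpi (S : Seed ν φ ψ) : (Fin m → SL(2, F)) →* P :=
  MonoidHom.noncommPiCoprod (K φ ψ) fun _ _ hij s t => S.K_commute hij s t

theorem Kpi_single (S : Seed ν φ ψ) (i : Fin m) (s : SL(2, F)) :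
    S.Kpi (Pi.mulSingle i s) = K φ ψ i s :=
  MonoidHom.noncommPiCoprod_mulSingle (K φ ψ) i s

theorem conj_Kpi (S : Seed ν φ ψ) {g : SpecialLinearGroup (Fin m) F} {σ : Equiv.Perm (Fin m)}
    {d : Fin m → Fˣ} (hg : IsMono g σ d) (f : Fin m → SL(2, F)) :
    φ g * S.Kpi f * (φ g)⁻¹ = S.Kpi fun r => twist (d (σ.symm r)) (f (σ.symm r)) := by
  let R : (Fin m → SL(2, F)) →* (Fin m → SL(2, F)) :=
    MonoidHom.mk' (fun f r => twist (d (σ.symm r)) (f (σ.symm r))) fun a b => by
      funext r; simp [twist, mul_assoc]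
  have : (MulAut.conj (φ g)).toMonoidHom.comp S.Kpi = S.Kpi.comp R := by
    refine MonoidHom.pi_ext fun i x => ?_
    simp only [MonoidHom.comp_apply, MulEquiv.coe_toMonoidHom, MulAut.conj_apply]
    rw [S.Kpi_single, S.K_conj hg]
    rw [show R (Pi.mulSingle i x) = Pi.mulSingle (σ i) (twist (d i) x) by
      funext r
      show twist _ _ = _
      by_cases hr : r = σ i
      · subst hr; simp
      · have : σ.symm r ≠ i := fun e => hr (by rw [← e]; simp)
        rw [Pi.mulSingle_eq_of_ne hr, Pi.mulSingle_eq_of_ne this]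
        simp [twist]]
    rw [S.Kpi_single]
  exact DFunLike.congr_fun this f

/-- Torus coordinates, the first one being determined by the others. -/
noncomputable def torFull : (Fin m → Fˣ) →* (Fin m → Fˣ) :=
  MonoidHom.mk' (fun x i => if i = i0 m then (∏ j ∈ Finset.univ.erase (i0 m), x j)⁻¹ else x i)
    fun x y => by
      funext i
      by_cases h : i = i0 m
      · simp [h, Finset.prod_mul_distrib, mul_comm]
      · simp [h]

theorem torFull_prod (x : Fin m → Fˣ) :
    ((Equiv.Perm.sign (1 : Equiv.Perm (Fin m)) : ℤ) : F) * ∏ i, ((torFull x i : Fˣ) : F) = 1 := by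
  rw [map_one, Units.val_one, Int.cast_one, one_mul, ← Units.coe_prod]
  rw [← Finset.mul_prod_erase Finset.univ _ (Finset.mem_univ (i0 m))]
  rw [Finset.prod_congr rfl (g := x) fun j hj => by
    simp [torFull, Finset.ne_of_mem_erase hj]]
  simp [torFull]

/-- The diagonal torus. -/
noncomputable def torHom : (Fin m → Fˣ) →* SpecialLinearGroup (Fin m) F :=
  MonoidHom.mk' (fun x => monoMat 1 (torFull x) (torFull_prod x)) fun x y =>
    mulVec_single_inj fun j => by
      have e := ((monoMat_isMono 1 _ (torFull_prod x)).mul (monoMat_isMono 1 _ (torFull_prod y))) j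
      have e' := monoMat_isMono 1 _ (torFull_prod (x * y)) j
      refine e'.trans (Eq.trans ?_ e.symm)
      simp

theorem tor_eq (S : Seed ν φ ψ) {g : SpecialLinearGroup (Fin m) F} {d : Fin m → Fˣ}
    (hg : IsMono g 1 d) : φ g = S.Kpi fun i => dM (d i) := by
  have hall : φ.comp torHom = S.Kpi.comp (MonoidHom.mk' (fun x i => dM (torFull x i)) fun x y => by
      funext i; simp [dM_mul]) := by
    refine MonoidHom.pi_ext fun i c => ?_
    simp only [MonoidHom.comp_apply, MonoidHom.mk'_apply]
    by_cases hi : i = i0 m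
    · subst hi
      have e : torFull (Pi.mulSingle (i0 m) c) = 1 := by
        funext j
        by_cases hj : j = i0 m
        · simp only [torFull, MonoidHom.mk'_apply, hj, if_pos, Pi.one_apply, inv_eq_one]
          exact Finset.prod_eq_one fun k hk => Pi.mulSingle_eq_of_ne (Finset.ne_of_mem_erase hk) _
        · simp [torFull, hj]
      rw [show torHom (Pi.mulSingle (i0 m) c) = 1 from
        (monoMat_isMono 1 _ (torFull_prod _)).ext (by rw [e]; exact IsMono.one), map_one]
      rw [show (fun i => dM (torFull (Pi.mulSingle (i0 m) c) i)) = 1 by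
        funext j; simp [e, show dM (1 : Fˣ) = 1 from map_one dHom], map_one]
    · obtain ⟨x, σ, e, hx, hσ0, hσ1, x0, x1⟩ := exists_mono_pair (F := F) (Ne.symm hi)
      have hT : (x * emb h01 (dM c⁻¹) * x⁻¹ : SpecialLinearGroup (Fin m) F) =
          torHom (Pi.mulSingle i c) := by
        refine mulVec_single_inj fun j => ?_
        refine Eq.trans ?_ (monoMat_isMono 1 _ (torFull_prod _) j).symm
        show _ *ᵥ bv j = _
        rw [Matrix.SpecialLinearGroup.coe_mul, Matrix.SpecialLinearGroup.coe_mul, ← mulVec_mulVec,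
          ← mulVec_mulVec, hx.inv j, mulVec_smul, mulVec_smul, ShortPres.emb_dM_coe]
        set k := σ⁻¹ j with hk
        have hj : j = σ k := by simp [hk]
        rw [show diagonal (dd (i0 m) (i1 m) ((c⁻¹ : Fˣ) : F)) *ᵥ bv k =
          dd (i0 m) (i1 m) ((c⁻¹ : Fˣ) : F) k • bv k by
            funext r
            rw [mulVec_diagonal]
            by_cases hr : r = k
            · subst hr; simp [bv]
            · simp [bv, hr], mulVec_smul, hx k, smul_smul, smul_smul, ← hj]
        congr 1
        show (((e (σ⁻¹ j))⁻¹ : Fˣ) : F) * _ * _ = _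
        rw [← hk, mul_comm, ← mul_assoc, Units.mul_inv, one_mul]
        by_cases k0 : k = i0 m
        · have : j = i0 m := by rw [hj, k0, hσ0]
          simp only [this, k0, torFull, MonoidHom.mk'_apply, if_pos]
          rw [Finset.prod_pi_mulSingle' i c, if_pos (Finset.mem_erase.2 ⟨hi, Finset.mem_univ _⟩)]
          simp [dd]
        · have hj0 : j ≠ i0 m := fun e => k0 (σ.injective (by rw [← hj, e, hσ0]))
          simp only [torFull, MonoidHom.mk'_apply, Equiv.Perm.coe_one, id_eq, hj0, if_false]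
          by_cases k1 : k = i1 m
          · have : j = i := by rw [hj, k1, hσ1]
            subst this
            simp [dd, k1, h01.symm]
          · have : j ≠ i := fun e => k1 (σ.injective (by rw [← hj, e, hσ1]))
            simp [dd, k0, k1, this]
      rw [← hT, map_mul, map_mul, map_inv, S.h01_eq, ← S.K_one, ← S.K_zero,
        show φ x * (K φ ψ (i0 m) (dM c⁻¹) * (K φ ψ (i1 m) (dM c⁻¹))⁻¹) * (φ x)⁻¹ =
          (φ x * K φ ψ (i0 m) (dM c⁻¹) * (φ x)⁻¹) * (φ x * K φ ψ (i1 m) (dM c⁻¹) * (φ x)⁻¹)⁻¹ by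
            group, S.K_conj hx, S.K_conj hx, hσ0, hσ1, x0, x1, twist_one, ← map_inv,
        ← S.Kpi_single, ← S.Kpi_single, ← map_mul]
      congr 1
      funext j
      by_cases hj0 : j = i0 m
      · subst hj0
        simp only [Pi.mul_apply, Pi.mulSingle_eq_same, Pi.mulSingle_eq_of_ne (Ne.symm hi), mul_one]
        congr 1
        simp only [torFull, MonoidHom.mk'_apply, if_pos]
        rw [Finset.prod_pi_mulSingle' i c, if_pos (Finset.mem_erase.2 ⟨hi, Finset.mem_univ _⟩)]
      · simp only [Pi.mul_apply, Pi.mulSingle_eq_of_ne hj0, one_mul]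
        by_cases hji : j = i
        · subst hji
          rw [Pi.mulSingle_eq_same, show (dM c⁻¹ : SL(2, F)) = (dM c)⁻¹ from map_inv dHom c, inv_inv]
          simp [torFull, hj0]
        · rw [Pi.mulSingle_eq_of_ne hji]
          simp [torFull, hj0, hji, show dM (1 : Fˣ) = 1 from map_one dHom]
  have hgd : g = torHom d := by
    refine hg.ext ?_
    have hp : ∏ i, d i = 1 := by
      apply Units.ext
      have hdg : g.1 = diagonal fun i => (d i : F) := by
        refine ext_of_mulVec_single fun j => ?_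
        refine (hg j).trans ?_
        funext r
        rw [mulVec_diagonal]
        by_cases hr : r = j
        · subst hr; simp [bv]
        · simp [bv, hr]
      have := g.2
      rw [hdg, det_diagonal] at this
      simpa using this
    have hf : torFull d = d := by
      funext i
      by_cases hi : i = i0 m
      · subst hi
        simp only [torFull, MonoidHom.mk'_apply, if_pos]
        rw [← Finset.mul_prod_erase Finset.univ _ (Finset.mem_univ (i0 m))] at hp
        exact inv_eq_of_mul_eq_one_left hp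
      · simp [torFull, hi]
    have h := monoMat_isMono 1 _ (torFull_prod d)
    intro j
    refine (h j).trans ?_
    rw [hf]
  have := DFunLike.congr_fun hall d
  simp only [MonoidHom.comp_apply, MonoidHom.mk'_apply] at this
  rw [hgd, this]
  have hdd := hg
  congr 1
  funext i
  congr 1
  by_cases hi : i = i0 m
  · subst hi
    have hp : (∏ i, d i) = 1 := by
      apply Units.ext
      have hdg : g.1 = diagonal fun i => (d i : F) := by
        refine ext_of_mulVec_single fun j => ?_
        refine (hdd j).trans ?_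
        funext r
        rw [mulVec_diagonal]
        by_cases hr : r = j
        · subst hr; simp [bv]
        · simp [bv, hr]
      have := g.2
      rw [hdg, det_diagonal] at this
      simpa using this
    simp only [torFull, MonoidHom.mk'_apply, if_pos]
    rw [← Finset.mul_prod_erase Finset.univ _ (Finset.mem_univ (i0 m))] at hp
    exact inv_eq_of_mul_eq_one_left hp
  · simp [torFull, hi]

end Seed

end Cfsg.Agent.SpShortPres
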