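import Cfsg.Agent.SpShortPres.Seed

/-!
# Long root elements at all vectors of the first Lagrangian
-/

set_option autoImplicit false

namespace Cfsg.Agent.SpShortPres

open Matrix Cfsg.Agent.SL2Pres Cfsg.Agent.SLMult Cfsg.Agent.CurtisTitsA
open scoped MatrixGroups commutatorElement

universe u v

variable {F : Type u} [Field F] [Fintype F] {m : ℕ} [hm : Fact (3 ≤ m)] {P : Type v} [Group P]

/-- A basis vector. -/
def bv (i : Fin m) : Fin m → F := Pi.single i 1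

theorem bv_ne_zero (i : Fin m) : (bv i : Fin m → F) ≠ 0 := fun h => by
  simpa [bv] using congrFun h i

theorem bv_li {i j : Fin m} (h : i ≠ j) : LinearIndependent F ![(bv i : Fin m → F), bv j] := by
  rw [LinearIndependent.pair_iff]
  intro s t hst
  have h1 := congrFun hst i
  have h2 := congrFun hst j
  simp [bv, h, h.symm] at h1 h2
  exact ⟨h1, h2⟩

theorem move_pair {u v : Fin m → F} (h : LinearIndependent F ![u, v]) :
    ∃ g : SpecialLinearGroup (Fin m) F, g.1 *ᵥ bv (i0 m) = u ∧ g.1 *ᵥ bv (i1 m) = v :=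
  exists_move_pair h01 h02 h12 h

theorem move {u : Fin m → F} (h : u ≠ 0) :
    ∃ g : SpecialLinearGroup (Fin m) F, g.1 *ᵥ bv (i0 m) = u :=
  exists_move h01 h02 h12 h

/-- The long root element at a vector. -/
noncomputable def L (φ : SpecialLinearGroup (Fin m) F →* P) (ψ : SL(2, F) →* P) (v : Fin m → F)
    (t : F) : P :=
  letI : Decidable (∃ g : SpecialLinearGroup (Fin m) F, g.1 *ᵥ bv (i0 m) = v) :=
    _root_.Classical.propDecidable _
  if h : ∃ g : SpecialLinearGroup (Fin m) F, g.1 *ᵥ bv (i0 m) = v then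
    φ h.choose * ψ (uM t) * (φ h.choose)⁻¹ else 1

/-- The short root element attached to two vectors. -/
noncomputable def M (φ : SpecialLinearGroup (Fin m) F →* P) (ψ : SL(2, F) →* P) (u v : Fin m → F)
    (t : F) : P :=
  L φ ψ (u + v) t * (L φ ψ u t)⁻¹ * (L φ ψ v t)⁻¹

variable {ν : Fˣ} {φ : SpecialLinearGroup (Fin m) F →* P} {ψ : SL(2, F) →* P}

theorem wM_inv_conj_dM (x : Fˣ) : (wM : SL(2, F))⁻¹ * dM x * wM = dM x⁻¹ := by
  have h := wM_conj_dM (F := F) x⁻¹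
  rw [show (dM x⁻¹ : SL(2, F))⁻¹ = dM x by
    rw [show dM x⁻¹ = (dM x)⁻¹ from map_inv dHom x, inv_inv]] at h
  rw [← h]; group

theorem inv_prod3 {G : Type*} [Group G] {x y z : G} (h1 : Commute x y) (h2 : Commute x z)
    (h3 : Commute y z) : (x * y * z)⁻¹ = x⁻¹ * y⁻¹ * z⁻¹ := by
  rw [_root_.mul_inv_rev, _root_.mul_inv_rev, h1.inv_inv.symm.eq,
    ((h2.inv_inv).mul_left h3.inv_inv).eq]

theorem L_zero_vec (t : F) : L φ ψ 0 t = 1 := by
  rw [L, dif_neg]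
  rintro ⟨g, hg⟩
  have := mulVec_inv hg
  rw [mulVec_zero] at this
  exact bv_ne_zero (i0 m) this.symm

namespace Seed

theorem L_eq (S : Seed ν φ ψ) {g : SpecialLinearGroup (Fin m) F} {v : Fin m → F}
    (h : g.1 *ᵥ bv (i0 m) = v) (t : F) : L φ ψ v t = φ g * ψ (uM t) * (φ g)⁻¹ := by
  have hh : ∃ g : SpecialLinearGroup (Fin m) F, g.1 *ᵥ bv (i0 m) = v := ⟨g, h⟩
  rw [L, dif_pos hh]
  exact S.well_def (hh.choose_spec.trans h.symm) t

theorem L_bv0 (S : Seed ν φ ψ) (t : F) : L φ ψ (bv (i0 m)) t = ψ (uM t) := by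
  rw [S.L_eq (g := 1) (by simp) t]; simp

theorem L_zero (S : Seed ν φ ψ) (v : Fin m → F) : L φ ψ v 0 = 1 := by
  by_cases hv : v = 0
  · rw [hv, L_zero_vec]
  obtain ⟨g, hg⟩ := move hv
  rw [S.L_eq hg, uM_zero, map_one]; group

theorem L_add (S : Seed ν φ ψ) (v : Fin m → F) (s t : F) :
    L φ ψ v (s + t) = L φ ψ v s * L φ ψ v t := by
  by_cases hv : v = 0
  · simp [hv, L_zero_vec]
  obtain ⟨g, hg⟩ := move hv
  rw [S.L_eq hg, S.L_eq hg, S.L_eq hg, uM_add, map_mul]; group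

theorem equivariant (S : Seed ν φ ψ) (g : SpecialLinearGroup (Fin m) F) (v : Fin m → F) (t : F) :
    φ g * L φ ψ v t * (φ g)⁻¹ = L φ ψ (g.1 *ᵥ v) t := by
  by_cases hv : v = 0
  · simp [hv, L_zero_vec]
  obtain ⟨x, hx⟩ := move hv
  rw [S.L_eq hx, S.L_eq (g := g * x) (by
    rw [Matrix.SpecialLinearGroup.coe_mul, ← mulVec_mulVec, hx]), map_mul]
  group

theorem L_smul (S : Seed ν φ ψ) (v : Fin m → F) (c t : F) :
    L φ ψ (c • v) t = L φ ψ v (c ^ 2 * t) := by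
  rcases eq_or_ne c 0 with rfl | hc
  · simp [L_zero_vec, S.L_zero]
  by_cases hv : v = 0
  · simp [hv, L_zero_vec]
  obtain ⟨g, hg⟩ := move hv
  set x : Fˣ := Units.mk0 c hc
  have he : (emb h01 (dM x) : SpecialLinearGroup (Fin m) F).1 *ᵥ bv (i0 m) = c • bv (i0 m) := by
    rw [ShortPres.emb_dM_coe]
    funext r
    rw [mulVec_diagonal]
    by_cases hr : r = i0 m
    · subst hr; simp [bv, dd, x]
    · simp [bv, hr]
  rw [S.L_eq (g := g * emb h01 (dM x)) (by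
    rw [Matrix.SpecialLinearGroup.coe_mul, ← mulVec_mulVec, he, mulVec_smul, hg]), S.L_eq hg, map_mul]
  calc _ = φ g * (φ (emb h01 (dM x)) * ψ (uM t) * (φ (emb h01 (dM x)))⁻¹) * (φ g)⁻¹ := by group
    _ = _ := by rw [S.h01_u]; simp [x]

theorem s01_bv (_S : Seed ν φ ψ) :
    (s01 : SpecialLinearGroup (Fin m) F).1 *ᵥ bv (i0 m) = bv (i1 m) := by
  have hw : (wM⁻¹ : SL(2, F)).1 = !![0, -1; 1, 0] := by
    rw [Matrix.SpecialLinearGroup.coe_inv, adjugate_fin_two, wM_coe]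
    simp
  obtain ⟨e1, e2, e3⟩ := emb_act (F := F) (h01 (m := m)) wM⁻¹ (bv (i0 m))
  funext r
  show ((emb h01 wM⁻¹).1 *ᵥ bv (i0 m)) r = _
  by_cases r0 : r = i0 m
  · rw [r0, e1, hw]; simp [bv, h01, h01.symm]
  by_cases r1 : r = i1 m
  · rw [r1, e2, hw]; simp [bv, h01, h01.symm]
  rw [e3 r r0 r1]; simp [bv, r0, r1]

theorem L_bv1 (S : Seed ν φ ψ) (t : F) :
    L φ ψ (bv (i1 m)) t = φ s01 * ψ (uM t) * (φ s01)⁻¹ := S.L_eq S.s01_bv t

theorem L_commute (S : Seed ν φ ψ) (u v : Fin m → F) (s t : F) :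
    Commute (L φ ψ u s) (L φ ψ v t) := by
  by_cases hu : u = 0
  · simp [hu, L_zero_vec]
  by_cases h : LinearIndependent F ![u, v]
  · obtain ⟨g, h0, h1⟩ := move_pair h
    rw [← h0, ← h1, ← S.equivariant, ← S.equivariant, S.L_bv0, S.L_bv1]
    exact (S.lev (uM s) (uM t)).map (MulAut.conj (φ g)).toMonoidHom
  · rw [LinearIndependent.pair_iff' hu] at h
    push Not at h
    obtain ⟨a, rfl⟩ := h
    rw [S.L_smul]
    show _ = _
    rw [← S.L_add, ← S.L_add, add_comm]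

theorem M_comm_vec (S : Seed ν φ ψ) (u v : Fin m → F) (t : F) : M φ ψ u v t = M φ ψ v u t := by
  rw [M, M, add_comm u v, mul_assoc, mul_assoc, ((S.L_commute u v t t).inv_inv).eq]

theorem M_equivariant (S : Seed ν φ ψ) (g : SpecialLinearGroup (Fin m) F) (u v : Fin m → F) (t : F) :
    φ g * M φ ψ u v t * (φ g)⁻¹ = M φ ψ (g.1 *ᵥ u) (g.1 *ᵥ v) t := by
  rw [M, M, ← mulVec_add, ← S.equivariant g, ← S.equivariant g, ← S.equivariant g]
  group

theorem commute_L_M (S : Seed ν φ ψ) (w u v : Fin m → F) (s t : F) :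
    Commute (L φ ψ w s) (M φ ψ u v t) :=
  ((S.L_commute w _ s t).mul_right (S.L_commute w _ s t).inv_right).mul_right
    (S.L_commute w _ s t).inv_right

theorem commute_M_M (S : Seed ν φ ψ) (u v u' v' : Fin m → F) (s t : F) :
    Commute (M φ ψ u v s) (M φ ψ u' v' t) :=
  ((S.commute_L_M _ u' v' s t).mul_left (S.commute_L_M _ u' v' s t).inv_left).mul_left
    (S.commute_L_M _ u' v' s t).inv_left

theorem M_add (S : Seed ν φ ψ) (u v : Fin m → F) (s t : F) :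
    M φ ψ u v (s + t) = M φ ψ u v s * M φ ψ u v t := by
  have h1 := (S.L_commute (u + v) u t s).inv_right
  have h2 := (S.L_commute v (u + v) s t).inv_left
  have h3 := (S.L_commute u v t s).inv_inv
  rw [M, M, M, S.L_add, S.L_add, S.L_add, _root_.mul_inv_rev, _root_.mul_inv_rev]
  calc _ = L φ ψ (u + v) s * (L φ ψ (u + v) t * (L φ ψ u t)⁻¹ * (L φ ψ u s)⁻¹) *
        ((L φ ψ v t)⁻¹ * (L φ ψ v s)⁻¹) := by group
    _ = L φ ψ (u + v) s * ((L φ ψ u s)⁻¹ * (L φ ψ (u + v) t * (L φ ψ u t)⁻¹)) *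
        ((L φ ψ v t)⁻¹ * (L φ ψ v s)⁻¹) := by
      rw [(h1.mul_left (S.L_commute u u t s).inv_inv).eq]
    _ = L φ ψ (u + v) s * (L φ ψ u s)⁻¹ * (L φ ψ (u + v) t * (L φ ψ u t)⁻¹ *
        ((L φ ψ v s)⁻¹ * (L φ ψ v t)⁻¹)) := by
      rw [(S.L_commute v v t s).inv_inv.eq]; group
    _ = L φ ψ (u + v) s * (L φ ψ u s)⁻¹ * ((L φ ψ v s)⁻¹ * (L φ ψ (u + v) t * (L φ ψ u t)⁻¹)) *
        (L φ ψ v t)⁻¹ := by
      rw [(h2.mul_right (S.L_commute v u s t).inv_inv).eq]; group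
    _ = _ := by group

theorem M_zero (S : Seed ν φ ψ) (u v : Fin m → F) : M φ ψ u v 0 = 1 := by
  simp [M, S.L_zero]

/-- The short root element opposite to a Levi one. -/
theorem eq_base (S : Seed ν φ ψ) (t : F) :
    L φ ψ (bv (i0 m) + bv (i1 m)) t =
      ψ (uM t) * (ψ wM * φ (tx (i1 m) (i0 m) (-t)) * (ψ wM)⁻¹) *
        (φ s01 * ψ (uM t) * (φ s01)⁻¹) := by
  set A := fun t : F => ψ (uM t)
  set B := fun t : F => ψ wM * φ (tx (i1 m) (i0 m) (-t)) * (ψ wM)⁻¹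
  set D := fun t : F => φ s01 * ψ (uM t) * (φ s01)⁻¹
  show L φ ψ _ t = A t * B t * D t
  have hg : (tx (i1 m) (i0 m) (1 : F)).1 *ᵥ bv (i0 m) = bv (i0 m) + bv (i1 m) := by
    rw [bv, tx_mulVec_single h01.symm, if_pos rfl, mul_one]; rfl
  have hAD : ∀ a b, Commute (A a) (D b) := fun a b => S.lev _ _
  have hAB : ∀ a b, Commute (A a) (B b) := by
    intro a b
    have h := ((S.dual.comm_X01 b a).symm).map (MulAut.conj (ψ wM)).toMonoidHom
    simp only [MonoidHom.comp_apply, MulEquiv.coe_toMonoidHom, MulAut.conj_apply,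
      invT_tx h01] at h
    have e : ψ wM * ψ (δ2 (uM a)) * (ψ wM)⁻¹ = A a := by
      rw [← map_inv, ← map_mul, ← map_mul, ← δ2_apply, δ2_δ2]
    rw [e] at h
    exact h
  have hDB : ∀ a b, Commute (D a) (B b) := by
    intro a b
    have h1 : Commute (D a) (ψ wM) := (S.lev wM (uM a)).symm
    have h2 : Commute (D a) (φ (tx (i1 m) (i0 m) (-b))) := by
      have e := S.equivariant (tx (i1 m) (i0 m) (-b)) (bv (i1 m)) a
      rw [S.L_bv1, bv, tx_fix h01.symm h01.symm, ← bv, S.L_bv1, mul_inv_eq_iff_eq_mul] at e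
      exact e.symm
    exact (h1.mul_right h2).mul_right h1.inv_right
  have hB : ∀ a b, B (a + b) = B a * B b := fun a b => by
    simp only [B]
    rw [neg_add, tx_add h01.symm, map_mul]; group
  have hA : ∀ a b, A (a + b) = A a * A b := fun a b => by
    simp only [A]
    rw [uM_add, map_mul]
  have hD : ∀ a b, D (a + b) = D a * D b := fun a b => by
    simp only [D]
    rw [uM_add, map_mul]; group
  let T : AddSubgroup F :=
    { carrier := {t | L φ ψ (bv (i0 m) + bv (i1 m)) t = A t * B t * D t}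
      zero_mem' := by
        show L φ ψ _ 0 = _
        simp [S.L_zero, A, B, D, uM_zero, tx_zero]
      add_mem' := fun {a b} ha hb => by
        show L φ ψ _ (a + b) = _
        rw [S.L_add, ha, hb, hA, hB, hD]
        calc _ = A a * (B a * D a * A b) * (B b * D b) := by group
          _ = A a * (A b * (B a * D a)) * (B b * D b) := by
            rw [((hAB b a).mul_right (hAD b a)).eq]
          _ = A a * A b * B a * (D a * B b) * D b := by group
          _ = A a * A b * B a * (B b * D a) * D b := by rw [(hDB a b).eq]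
          _ = _ := by group
      neg_mem' := fun {a} ha => by
        show L φ ψ _ (-a) = _
        have e : ∀ f : F → P, (∀ x y, f (x + y) = f x * f y) → f (-a) = (f a)⁻¹ := fun f hf => by
          refine eq_inv_of_mul_eq_one_left ?_
          have h0 := hf 0 0
          rw [add_zero] at h0
          rw [← hf, neg_add_cancel]
          exact mul_left_cancel (h0.symm.trans (mul_one _).symm)
        have eA : A (-a) = (A a)⁻¹ := e A hA
        have eB : B (-a) = (B a)⁻¹ := e B hB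
        have eD : D (-a) = (D a)⁻¹ := e D hD
        rw [e _ (S.L_add _), eA, eB, eD, ha]
        exact inv_prod3 (hAB a a) (hAD a a) (hDB a a).symm }
  refine SLMult.Sys.squares_generate T (fun c => ?_) t
  rcases eq_or_ne c 0 with rfl | hc
  · rw [mul_zero]; exact T.zero_mem
  set x : Fˣ := Units.mk0 c hc
  set H := ψ (dM x) * (φ s01 * ψ (dM x) * (φ s01)⁻¹)
  have hX : ∀ r : F, H * φ (tx (i1 m) (i0 m) r) * H⁻¹ = φ (tx (i1 m) (i0 m) r) := by
    intro r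
    have hs : ∀ r : F, s01 * tx (i0 m) (i1 m) r * (s01 : SpecialLinearGroup (Fin m) F)⁻¹ =
        tx (i1 m) (i0 m) (-r) := fun r => by
      rw [← emb_tx01 h01, ← emb_tx10 h01, s01, ← map_inv, ← map_mul, ← map_mul]
      congr 1
      rw [inv_inv, ← δ2_δ2 (tx (1 : Fin 2) 0 (-r)), δ2_lo, neg_neg, δ2_apply,
        ← ShortPres.uM_eq_tx]
      have h2 := dM_neg_one_comm (uM r : SL(2, F))
      rw [← wM_sq] at h2
      rw [eq_mul_inv_iff_mul_eq, mul_assoc, mul_assoc, inv_mul_eq_iff_eq_mul]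
      simpa only [mul_assoc] using h2.symm
    have e1 : (φ s01 * ψ (dM x) * (φ s01)⁻¹) * φ (tx (i1 m) (i0 m) r) *
        (φ s01 * ψ (dM x) * (φ s01)⁻¹)⁻¹ = φ (tx (i1 m) (i0 m) ((x : F) * r)) := by
      rw [show r = -(-r) by ring, ← hs, map_mul, map_mul, map_inv]
      calc _ = φ s01 * (ψ (dM x) * φ (tx (i0 m) (i1 m) (-r)) * (ψ (dM x))⁻¹) * (φ s01)⁻¹ := by group
        _ = _ := by
          rw [S.h_X01, ← map_inv, ← map_mul, ← map_mul, hs]
          congr 2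
          ring
    calc _ = ψ (dM x) * ((φ s01 * ψ (dM x) * (φ s01)⁻¹) * φ (tx (i1 m) (i0 m) r) *
          (φ s01 * ψ (dM x) * (φ s01)⁻¹)⁻¹) * (ψ (dM x))⁻¹ := by simp only [H]; group
      _ = _ := by
        rw [e1, S.h_X10]
        congr 2
        simp [x, ← mul_assoc, hc]
  have hA' : H * A 1 * H⁻¹ = A (c * c) := by
    have hk : Commute (A 1) (φ s01 * ψ (dM x) * (φ s01)⁻¹) := S.lev _ _
    calc _ = ψ (dM x) * ((φ s01 * ψ (dM x) * (φ s01)⁻¹) * A 1 *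
          (φ s01 * ψ (dM x) * (φ s01)⁻¹)⁻¹) * (ψ (dM x))⁻¹ := by simp only [H]; group
      _ = _ := by
        rw [← hk.eq, mul_inv_cancel_right]
        show ψ (dM x) * ψ (uM 1) * (ψ (dM x))⁻¹ = ψ _
        rw [← map_inv, ← map_mul, ← map_mul, dM_conj_uM]
        simp [x, sq]
  have hD' : H * D 1 * H⁻¹ = D (c * c) := by
    have hk : Commute (ψ (dM x)) (D (c * c)) := S.lev _ _
    calc _ = ψ (dM x) * (φ s01 * (ψ (dM x) * ψ (uM 1) * (ψ (dM x))⁻¹) * (φ s01)⁻¹) *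
          (ψ (dM x))⁻¹ := by simp only [H, D]; group
      _ = ψ (dM x) * D (c * c) * (ψ (dM x))⁻¹ := by
        rw [← map_inv, ← map_mul, ← map_mul, dM_conj_uM]
        simp [D, x, sq]
      _ = _ := by rw [hk.eq, mul_inv_cancel_right]
  have hB' : H * B 1 * H⁻¹ = B (c * c) := by
    have hk : Commute (ψ wM) (φ s01 * ψ (dM x) * (φ s01)⁻¹) := S.lev _ _
    have hw : (ψ wM)⁻¹ * ψ (dM x) * ψ wM = ψ (dM x⁻¹) := by
      rw [← map_inv, ← map_mul, ← map_mul, wM_inv_conj_dM]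
    set K1 := φ s01 * ψ (dM x) * (φ s01)⁻¹
    have e1 : K1 * φ (tx (i1 m) (i0 m) (-1)) * K1⁻¹ = φ (tx (i1 m) (i0 m) (-c)) := by
      have := hX (-1 : F)
      rw [show H = ψ (dM x) * K1 from rfl] at this
      have e := congrArg (fun z => (ψ (dM x))⁻¹ * z * ψ (dM x)) this
      rw [show (ψ (dM x))⁻¹ * φ (tx (i1 m) (i0 m) (-1)) * ψ (dM x) =
        φ (tx (i1 m) (i0 m) (-c)) by
          rw [← map_inv, show (dM x)⁻¹ = dM x⁻¹ from (map_inv dHom x).symm]
          have := S.h_X10 x⁻¹ (-1)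
          rw [inv_inv, ← map_inv, show (dM x⁻¹)⁻¹ = dM x by
            rw [show dM x⁻¹ = (dM x)⁻¹ from map_inv dHom x, inv_inv]] at this
          rw [this]; simp [x]] at e
      rw [← e]; group
    calc _ = ψ wM * (((ψ wM)⁻¹ * ψ (dM x) * ψ wM) * (((ψ wM)⁻¹ * K1 * ψ wM) *
          φ (tx (i1 m) (i0 m) (-1)) * ((ψ wM)⁻¹ * K1 * ψ wM)⁻¹) *
          ((ψ wM)⁻¹ * ψ (dM x) * ψ wM)⁻¹) * (ψ wM)⁻¹ := by simp only [H, B, K1]; group
      _ = _ := by
        rw [hw, show (ψ wM)⁻¹ * K1 * ψ wM = K1 by rw [mul_assoc, ← hk.eq, inv_mul_cancel_left], e1,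
          S.h_X10]
        show _ = ψ wM * φ (tx (i1 m) (i0 m) (-(c * c))) * (ψ wM)⁻¹
        simp [x]
  show L φ ψ _ (c * c) = _
  have he : φ (tx (i1 m) (i0 m) 1) * ψ (uM (c * c)) * (φ (tx (i1 m) (i0 m) 1))⁻¹ =
      H * (φ (tx (i1 m) (i0 m) 1) * A 1 * (φ (tx (i1 m) (i0 m) 1))⁻¹) * H⁻¹ := by
    calc _ = (H * φ (tx (i1 m) (i0 m) 1) * H⁻¹) * (H * A 1 * H⁻¹) *
          (H * φ (tx (i1 m) (i0 m) 1) * H⁻¹)⁻¹ := by rw [hX, hA']
      _ = _ := by group
  rw [S.L_eq hg, he, show φ (tx (i1 m) (i0 m) 1) * A 1 * (φ (tx (i1 m) (i0 m) 1))⁻¹ =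
    A 1 * B 1 * D 1 from S.half.e]
  calc _ = (H * A 1 * H⁻¹) * (H * B 1 * H⁻¹) * (H * D 1 * H⁻¹) := by group
    _ = _ := by rw [hA', hB', hD']

theorem M01_eq (S : Seed ν φ ψ) (t : F) :
    M φ ψ (bv (i0 m)) (bv (i1 m)) t = ψ wM * φ (tx (i1 m) (i0 m) (-t)) * (ψ wM)⁻¹ := by
  have h := S.commute_L_M (bv (i0 m)) (bv (i0 m)) (bv (i1 m)) t t
  rw [M, S.eq_base, ← S.L_bv1, ← S.L_bv0] at h ⊢
  set a := L φ ψ (bv (i0 m)) t
  set d := L φ ψ (bv (i1 m)) t
  set b := ψ wM * φ (tx (i1 m) (i0 m) (-t)) * (ψ wM)⁻¹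
  have hd : d * a⁻¹ = a⁻¹ * d := ((S.L_commute _ _ t t).inv_left).eq.symm
  have e : a * b * d * a⁻¹ * d⁻¹ = a * b * a⁻¹ := by rw [mul_assoc (a * b) d, hd]; group
  rw [e] at h ⊢
  exact mul_left_cancel (h.eq.trans (inv_mul_cancel_right (a * b) a))

theorem combo01 (S : Seed ν φ ψ) (a b t : F) :
    L φ ψ (a • bv (i0 m) + b • bv (i1 m)) t =
      L φ ψ (bv (i0 m)) (a ^ 2 * t) * M φ ψ (bv (i0 m)) (bv (i1 m)) (a * b * t) *
        L φ ψ (bv (i1 m)) (b ^ 2 * t) := by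
  rcases eq_or_ne b 0 with rfl | hb
  · simp [S.L_smul, S.M_zero, S.L_zero]
  rcases eq_or_ne a 0 with rfl | ha
  · simp [S.L_smul, S.M_zero, S.L_zero]
  set x : Fˣ := Units.mk0 (a / b) (div_ne_zero ha hb)
  have e : a • bv (i0 m) + b • bv (i1 m) =
      b • ((x : F) • bv (i0 m) + (bv (i1 m) : Fin m → F)) := by
    rw [smul_add, smul_smul]
    simp [x, mul_div_cancel₀ _ hb]
  rw [e, S.L_smul]
  have hg : (tx (i1 m) (i0 m) ((x⁻¹ : Fˣ) : F)).1 *ᵥ bv (i0 m) =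
      bv (i0 m) + ((x⁻¹ : Fˣ) : F) • bv (i1 m) := by
    rw [bv, tx_mulVec_single h01.symm, if_pos rfl, bv, ← Pi.single_smul, smul_eq_mul]
  have e2 : (x : F) • bv (i0 m) + (bv (i1 m) : Fin m → F) =
      (x : F) • (bv (i0 m) + ((x⁻¹ : Fˣ) : F) • bv (i1 m)) := by
    rw [smul_add, smul_smul, Units.mul_inv, one_smul]
  have hg1 : (tx (i1 m) (i0 m) (1 : F)).1 *ᵥ bv (i0 m) = bv (i0 m) + bv (i1 m) := by
    rw [bv, tx_mulVec_single h01.symm, if_pos rfl, mul_one]; rfl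
  have hh : ∀ s : F, ψ (dM x) * L φ ψ (bv (i0 m) + bv (i1 m)) s * (ψ (dM x))⁻¹ =
      L φ ψ ((x : F) • bv (i0 m) + bv (i1 m)) s := by
    intro s
    rw [e2, S.L_smul, S.L_eq hg, S.L_eq hg1]
    calc _ = (ψ (dM x) * φ (tx (i1 m) (i0 m) 1) * (ψ (dM x))⁻¹) *
          (ψ (dM x) * ψ (uM s) * (ψ (dM x))⁻¹) *
          (ψ (dM x) * φ (tx (i1 m) (i0 m) 1) * (ψ (dM x))⁻¹)⁻¹ := by group
      _ = _ := by
        rw [S.h_X10, mul_one, ← map_inv ψ, ← map_mul ψ, ← map_mul ψ, dM_conj_uM]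
  set s := b ^ 2 * t
  rw [← hh, S.eq_base, S.M01_eq, S.L_bv0, S.L_bv1]
  have hk : Commute (ψ (dM x)) (φ s01 * ψ (uM s) * (φ s01)⁻¹) := S.lev _ _
  have hw : (ψ wM)⁻¹ * ψ (dM x) * ψ wM = ψ (dM x⁻¹) := by
    rw [← map_inv, ← map_mul, ← map_mul, wM_inv_conj_dM]
  calc _ = (ψ (dM x) * ψ (uM s) * (ψ (dM x))⁻¹) * (ψ wM * (((ψ wM)⁻¹ * ψ (dM x) * ψ wM) *
        φ (tx (i1 m) (i0 m) (-s)) * ((ψ wM)⁻¹ * ψ (dM x) * ψ wM)⁻¹) * (ψ wM)⁻¹) *
        (ψ (dM x) * (φ s01 * ψ (uM s) * (φ s01)⁻¹) * (ψ (dM x))⁻¹) := by group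
    _ = _ := by
      rw [hk.eq, mul_inv_cancel_right, hw, S.h_X10, inv_inv, ← map_inv ψ, ← map_mul ψ, ← map_mul ψ,
        dM_conj_uM]
      have h1 : (x : F) ^ 2 * s = a ^ 2 * t := by simp only [x, s, Units.val_mk0]; field_simp
      have h2 : (x : F) * -s = -(a * b * t) := by simp only [x, s, Units.val_mk0]; field_simp
      rw [h1, h2]

theorem combo (S : Seed ν φ ψ) {u v : Fin m → F} (h : LinearIndependent F ![u, v]) (a b t : F) :
    L φ ψ (a • u + b • v) t =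
      L φ ψ u (a ^ 2 * t) * M φ ψ u v (a * b * t) * L φ ψ v (b ^ 2 * t) := by
  obtain ⟨g, h0, h1⟩ := move_pair h
  rw [← h0, ← h1, ← mulVec_smul, ← mulVec_smul, ← mulVec_add, ← S.equivariant, ← S.equivariant,
    ← S.equivariant, ← S.M_equivariant, S.combo01]
  group

theorem M_scale (S : Seed ν φ ψ) {u v : Fin m → F} (h : LinearIndependent F ![u, v]) (a b t : F) :
    M φ ψ (a • u) (b • v) t = M φ ψ u v (a * b * t) := by
  rw [M, S.combo h, S.L_smul, S.L_smul]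
  set x := L φ ψ u (a ^ 2 * t)
  set y := L φ ψ v (b ^ 2 * t)
  set z := M φ ψ u v (a * b * t)
  have hxz : Commute x z := S.commute_L_M _ _ _ _ _
  have hxy : Commute x y := S.L_commute _ _ _ _
  calc x * z * y * x⁻¹ * y⁻¹ = x * z * (y * x⁻¹) * y⁻¹ := by group
    _ = x * z * (x⁻¹ * y) * y⁻¹ := by rw [hxy.inv_left.eq]
    _ = _ := by rw [hxz.eq]; group

/-- Additivity in the first vector, along an elementary move. -/
theorem M_tri (S : Seed ν φ ψ) {j k l : Fin m} (hjk : j ≠ k) (hjl : j ≠ l) (hkl : k ≠ l)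
    (c t : F) :
    M φ ψ (bv k + c • bv j) (bv l) t = M φ ψ (bv k) (bv l) t * M φ ψ (bv j) (bv l) (c * t) := by
  have base : ∀ c t : F, M φ ψ (bv (i0 m)) (bv (i1 m) + c • bv (i2 m)) t =
      M φ ψ (bv (i0 m)) (bv (i1 m)) t * M φ ψ (bv (i0 m)) (bv (i2 m)) (c * t) := by
    intro c t
    set g : SpecialLinearGroup (Fin m) F := tx (i2 m) (i1 m) c
    have hg0 : g.1 *ᵥ bv (i0 m) = bv (i0 m) := tx_fix h12.symm h01 c
    have hg1 : g.1 *ᵥ bv (i1 m) = bv (i1 m) + c • bv (i2 m) := by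
      rw [bv, tx_mulVec_single h12.symm, if_pos rfl, bv, ← Pi.single_smul, smul_eq_mul]
    have hgc : Commute (φ g) (ψ wM) := S.stab_tx h12.symm h02.symm h01.symm c _
    set s12 : SpecialLinearGroup (Fin m) F := emb h12 wM⁻¹
    have hsc : Commute (φ s12) (ψ wM) := S.stab_emb12 _ _
    have hw : (wM⁻¹ : SL(2, F)).1 = !![0, -1; 1, 0] := by
      rw [Matrix.SpecialLinearGroup.coe_inv, adjugate_fin_two, wM_coe]
      simp
    have hs0 : s12.1 *ᵥ bv (i0 m) = bv (i0 m) := by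
      obtain ⟨e1, e2, e3⟩ := emb_act (F := F) (h12 (m := m)) wM⁻¹ (bv (i0 m))
      funext r
      show ((emb h12 wM⁻¹).1 *ᵥ bv (i0 m)) r = _
      by_cases r1 : r = i1 m
      · rw [r1, e1, hw]; simp [bv, h01.symm, h02.symm]
      by_cases r2 : r = i2 m
      · rw [r2, e2, hw]; simp [bv, h01.symm, h02.symm]
      exact e3 r r1 r2
    have hs1 : s12.1 *ᵥ bv (i1 m) = bv (i2 m) := by
      obtain ⟨e1, e2, e3⟩ := emb_act (F := F) (h12 (m := m)) wM⁻¹ (bv (i1 m))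
      funext r
      show ((emb h12 wM⁻¹).1 *ᵥ bv (i1 m)) r = _
      by_cases r1 : r = i1 m
      · rw [r1, e1, hw]; simp [bv, h12, h12.symm]
      by_cases r2 : r = i2 m
      · rw [r2, e2, hw]; simp [bv, h12, h12.symm]
      rw [e3 r r1 r2]; simp [bv, r1, r2]
    have hs20 : ∀ y : F, s12 * tx (i1 m) (i0 m) y * s12⁻¹ = tx (i2 m) (i0 m) y := by
      intro y
      rw [mul_inv_eq_iff_eq_mul]
      refine mulVec_single_inj fun r => ?_
      rw [Matrix.SpecialLinearGroup.coe_mul, Matrix.SpecialLinearGroup.coe_mul, ← mulVec_mulVec,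
        ← mulVec_mulVec, tx_mulVec_single h01.symm]
      have hcol : ∀ v, (s12.1 *ᵥ v) (i0 m) = v (i0 m) := fun v =>
        (emb_act (F := F) (h12 (m := m)) wM⁻¹ v).2.2 _ h01 h02
      by_cases hr : r = i0 m
      · subst hr
        rw [if_pos rfl, mulVec_add]
        show s12.1 *ᵥ bv (i0 m) + _ = (tx _ _ y).1 *ᵥ (s12.1 *ᵥ bv (i0 m))
        rw [hs0, show Pi.single (i1 m) (y * 1) = y • (bv (i1 m) : Fin m → F) by
          rw [bv, ← Pi.single_smul, smul_eq_mul], mulVec_smul, hs1, bv,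
          tx_mulVec_single h02.symm, if_pos rfl, bv, ← Pi.single_smul, smul_eq_mul]
      · rw [if_neg hr, add_zero]
        have h0 : (s12.1 *ᵥ Pi.single r 1) (i0 m) = 0 := by
          rw [hcol, Pi.single_eq_of_ne (Ne.symm hr)]
        generalize s12.1 *ᵥ Pi.single r 1 = w at h0 ⊢
        rw [tx_eq h02.symm, Matrix.SpecialLinearGroup.transvection_coe, Cfsg.Agent.Classical.tv_mulVec, h0]
        simp
    have hM2 : M φ ψ (bv (i0 m)) (bv (i2 m)) (c * t) =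
        ψ wM * φ (tx (i2 m) (i0 m) (-(c * t))) * (ψ wM)⁻¹ := by
      have := S.M_equivariant s12 (bv (i0 m)) (bv (i1 m)) (c * t)
      rw [hs0, hs1, S.M01_eq] at this
      rw [← this, ← hs20, map_mul, map_mul, map_inv]
      calc _ = (φ s12 * ψ wM) * φ (tx (i1 m) (i0 m) (-(c * t))) * (φ s12 * ψ wM)⁻¹ := by group
        _ = _ := by rw [hsc.eq]; group
    have hconj : g * tx (i1 m) (i0 m) (-t) * g⁻¹ = tx (i2 m) (i0 m) (-(c * t)) * tx (i1 m) (i0 m) (-t) := by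
      rw [← mul_neg, ← tx_rel h12.symm h01.symm h02.symm, commutatorElement_def]
      simp only [g]
      group
    have hxy : Commute (tx (i1 m) (i0 m) (-t) : SpecialLinearGroup (Fin m) F)
        (tx (i2 m) (i0 m) (-(c * t))) := tx_comm h01.symm h02.symm h02 h01.symm _ _
    rw [← hg1]
    conv_lhs => rw [← hg0]
    rw [← S.M_equivariant, S.M01_eq, hM2]
    calc _ = ψ wM * φ (g * tx (i1 m) (i0 m) (-t) * g⁻¹) * (ψ wM)⁻¹ := by
          rw [map_mul, map_mul, map_inv]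
          calc _ = (φ g * ψ wM) * φ (tx (i1 m) (i0 m) (-t)) * (φ g * ψ wM)⁻¹ := by group
            _ = _ := by rw [hgc.eq]; group
      _ = _ := by rw [hconj, ← hxy.eq, map_mul]; group
  obtain ⟨g, s, g0, g1, g2⟩ := exists_mono3 (F := F) ![i0 m, i1 m, i2 m] ![l, k, j]
    (by intro a b; fin_cases a <;> fin_cases b <;>
          simp [h01, h01.symm, h02, h02.symm, h12, h12.symm])
    (by intro a b; fin_cases a <;> fin_cases b <;>
          simp [hkl.symm, hkl, hjl.symm, hjl, hjk.symm, hjk])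
  simp only [Matrix.cons_val_zero, Matrix.cons_val_one, Matrix.cons_val] at g0 g1 g2
  change g.1 *ᵥ bv (i0 m) = bv l at g0
  change g.1 *ᵥ bv (i1 m) = bv k at g1
  have g2' : g.1 *ᵥ bv (i2 m) = (s : F) • bv j := by
    rw [bv, g2, bv, ← Pi.single_smul, smul_eq_mul, mul_one]
  have := congrArg (fun z => φ g * z * (φ g)⁻¹) (base (c * ((s⁻¹ : Fˣ) : F)) t)
  rw [S.M_equivariant, mulVec_add, mulVec_smul, g0, g1, g2', smul_smul, mul_assoc,
    Units.inv_mul, mul_one,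
    show ∀ A B : P, φ g * (A * B) * (φ g)⁻¹ = (φ g * A * (φ g)⁻¹) * (φ g * B * (φ g)⁻¹) from
      fun A B => by group, S.M_equivariant, S.M_equivariant, g0, g1, g2'] at this
  rw [S.M_comm_vec, this, S.M_comm_vec (bv l)]
  congr 1
  rw [S.M_comm_vec]
  conv_lhs => rw [← one_smul F (bv l : Fin m → F)]
  rw [S.M_scale (bv_li hjl)]
  congr 1
  rw [mul_one, ← mul_assoc, mul_comm (s : F), mul_assoc c, Units.inv_mul, mul_one]

end Seed

end Cfsg.Agent.SpShortPres
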