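import Cfsg.Agent.SpShortPres.Levels
import Cfsg.Prelude.Def_Classical

/-!
# The symplectic model
-/

set_option autoImplicit false

namespace Cfsg.Agent.SpShortPres

open Matrix Cfsg.Agent.SL2Pres Cfsg.Agent.SLMult Cfsg.Agent.CurtisTitsA
open scoped MatrixGroups commutatorElement

universe u v

variable {F : Type u} [Field F] {m : ℕ}

/-- The symplectic group. -/
abbrev Sp (F : Type u) [Field F] (m : ℕ) := Matrix.symplecticGroup (Fin m) F

theorem coe_mul' (a b : Sp F m) : (a * b).1 = a.1 * b.1 := rfl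

theorem coe_one' : (1 : Sp F m).1 = 1 := rfl

theorem sl_mul_inv (g : SpecialLinearGroup (Fin m) F) : g.1 * (g⁻¹).1 = 1 := by
  rw [← Matrix.SpecialLinearGroup.coe_mul, mul_inv_cancel, Matrix.SpecialLinearGroup.coe_one]

theorem sl_inv_mul (g : SpecialLinearGroup (Fin m) F) : (g⁻¹).1 * g.1 = 1 := by
  rw [← Matrix.SpecialLinearGroup.coe_mul, inv_mul_cancel, Matrix.SpecialLinearGroup.coe_one]

/-- The Levi factor. -/
def diagBlock : SpecialLinearGroup (Fin m) F →* Sp F m where
  toFun g := ⟨fromBlocks g.1 0 0 (invT g).1, by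
    rw [SymplecticGroup.mem_iff, J, fromBlocks_multiply, fromBlocks_transpose, fromBlocks_multiply]
    simp only [invT_coe, transpose_transpose, mul_zero, zero_mul, add_zero, zero_add, mul_one,
      mul_neg, neg_mul, transpose_zero, sl_mul_inv]
    rw [← transpose_mul, sl_mul_inv]
    simp⟩
  map_one' := Subtype.ext (by simp [fromBlocks_one])
  map_mul' g h := Subtype.ext (by
    show fromBlocks (g * h).1 0 0 (invT (g * h)).1 =
      fromBlocks g.1 0 0 (invT g).1 * fromBlocks h.1 0 0 (invT h).1
    simp [fromBlocks_multiply])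

theorem diagBlock_coe (g : SpecialLinearGroup (Fin m) F) :
    (diagBlock g).1 = fromBlocks g.1 0 0 (invT g).1 := rfl

/-- The product of the long root `SL(2, F)` at all levels. -/
def levAll : (Fin m → SL(2, F)) →* Sp F m where
  toFun f := ⟨fromBlocks (diagonal fun i => (f i).1 0 0) (diagonal fun i => (f i).1 0 1)
      (diagonal fun i => (f i).1 1 0) (diagonal fun i => (f i).1 1 1), by
    have hdet : ∀ i, (f i).1 0 0 * (f i).1 1 1 - (f i).1 0 1 * (f i).1 1 0 = 1 := fun i => by
      rw [← det_fin_two]; exact (f i).2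
    rw [SymplecticGroup.mem_iff, J, fromBlocks_multiply, fromBlocks_transpose, fromBlocks_multiply]
    simp only [mul_zero, mul_one, mul_neg, neg_mul, diagonal_transpose, diagonal_mul_diagonal,
      zero_add, add_zero, diagonal_neg, diagonal_add]
    congr 1
    · rw [← diagonal_zero]; congr 1; funext i; ring
    · rw [← diagonal_one, diagonal_neg]; congr 1; funext i; linear_combination -(hdet i)
    · rw [← diagonal_one]; congr 1; funext i; linear_combination hdet i
    · rw [← diagonal_zero]; congr 1; funext i; ring⟩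
  map_one' := Subtype.ext (by
    show fromBlocks _ _ _ _ = _
    simp only [Pi.one_apply, Matrix.SpecialLinearGroup.coe_one]
    simp [fromBlocks_one])
  map_mul' f g := Subtype.ext (by
    show _ = fromBlocks _ _ _ _ * fromBlocks _ _ _ _
    simp only [fromBlocks_multiply, diagonal_mul_diagonal, diagonal_add, Pi.mul_apply,
      Matrix.SpecialLinearGroup.coe_mul, Matrix.mul_apply, Fin.sum_univ_two])

theorem levAll_coe (f : Fin m → SL(2, F)) : (levAll f).1 =
    fromBlocks (diagonal fun i => (f i).1 0 0) (diagonal fun i => (f i).1 0 1)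
      (diagonal fun i => (f i).1 1 0) (diagonal fun i => (f i).1 1 1) := rfl

theorem levAll_injective : Function.Injective (levAll (F := F) (m := m)) := by
  intro f g h
  have e := congrArg Subtype.val h
  rw [levAll_coe, levAll_coe, fromBlocks_inj] at e
  obtain ⟨a, b, c, d⟩ := e
  funext i
  apply Subtype.ext
  ext p q
  fin_cases p <;> fin_cases q
  · exact congrFun (diagonal_injective a) i
  · exact congrFun (diagonal_injective b) i
  · exact congrFun (diagonal_injective c) i
  · exact congrFun (diagonal_injective d) i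

/-- An upper unipotent matrix. -/
def upM (S : Matrix (Fin m) (Fin m) F) : Matrix (Fin m ⊕ Fin m) (Fin m ⊕ Fin m) F :=
  fromBlocks 1 S 0 1

theorem upM_mul (S T : Matrix (Fin m) (Fin m) F) : upM S * upM T = upM (S + T) := by
  simp [upM, fromBlocks_multiply, add_comm]

theorem upM_zero : upM (0 : Matrix (Fin m) (Fin m) F) = 1 := fromBlocks_one

theorem upM_inj {S T : Matrix (Fin m) (Fin m) F} (h : upM S = upM T) : S = T :=
  (fromBlocks_inj.1 h).2.1

theorem coe_inv_up {z : Sp F m} {S : Matrix (Fin m) (Fin m) F} (h : z.1 = upM S) :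
    (z⁻¹).1 = upM (-S) := by
  have e : z.1 * upM (-S) = 1 := by rw [h, upM_mul, add_neg_cancel, upM_zero]
  calc (z⁻¹).1 = (z⁻¹).1 * (z.1 * upM (-S)) := by rw [e, mul_one]
    _ = ((z⁻¹ * z : Sp F m)).1 * upM (-S) := by rw [Submonoid.coe_mul, mul_assoc]
    _ = _ := by rw [inv_mul_cancel, Submonoid.coe_one, one_mul]

theorem diag_up {g : SpecialLinearGroup (Fin m) F} {z : Sp F m} {S : Matrix (Fin m) (Fin m) F}
    (h : z.1 = upM S) : (diagBlock g * z * (diagBlock g)⁻¹).1 = upM (g.1 * S * g.1ᵀ) := by
  have e : (diagBlock g).1 * z.1 = upM (g.1 * S * g.1ᵀ) * (diagBlock g).1 := by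
    rw [diagBlock_coe, h, upM, upM, fromBlocks_multiply, fromBlocks_multiply]
    simp only [invT_coe, mul_zero, zero_mul, add_zero, zero_add, mul_one, one_mul]
    rw [mul_assoc (g.1 * S), ← transpose_mul, sl_inv_mul, transpose_one, mul_one]
  rw [coe_mul', coe_mul', e, mul_assoc, ← coe_mul', mul_inv_cancel, coe_one', mul_one]

theorem mulSingle_entry (i : Fin m) (s : SL(2, F)) (a b : Fin 2) :
    diagonal (fun j => ((Pi.mulSingle i s : Fin m → SL(2, F)) j).1 a b) =
      (if a = b then 1 else 0) + single i i (s.1 a b - if a = b then 1 else 0) := by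
  ext r c
  by_cases hrc : r = c
  · subst hrc
    by_cases hr : r = i
    · subst hr
      by_cases hab : a = b <;> simp [hab]
    · by_cases hab : a = b <;> simp [hab, hr, Ne.symm hr]
  · have h1 : single i i (s.1 a b - if a = b then 1 else 0) r c = 0 := by
      rw [single_apply, if_neg fun h => hrc (h.1.symm.trans h.2)]
    rw [diagonal_apply_ne _ hrc, Matrix.add_apply, h1, add_zero]
    split_ifs
    · rw [one_apply_ne hrc]
    · rfl

theorem lev_uM (i : Fin m) (t : F) :
    (levAll (Pi.mulSingle i (uM t))).1 = upM (single i i t) := by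
  rw [levAll_coe, mulSingle_entry, mulSingle_entry, mulSingle_entry, mulSingle_entry, uM_coe, upM]
  congr 1 <;> simp

theorem invT_inv_transpose (g : SpecialLinearGroup (Fin m) F) : (invT g⁻¹).1 = g.1ᵀ := by
  rw [invT_coe, inv_inv]

theorem single_eq_vecMulVec (i j : Fin m) (x : F) :
    (single i j x : Matrix (Fin m) (Fin m) F) = vecMulVec (x • Pi.single i 1) (Pi.single j 1) := by
  ext a b
  rw [vecMulVec_apply, single_apply, Pi.smul_apply, smul_eq_mul]
  by_cases ha : a = i <;> by_cases hb : b = j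
  · subst ha hb; simp
  · subst ha; simp [hb, Ne.symm hb]
  · simp [ha, Ne.symm ha]
  · simp [ha, Ne.symm ha]

theorem lev_commute {g : SpecialLinearGroup (Fin m) F} {i : Fin m}
    (hc : g.1 *ᵥ Pi.single i 1 = Pi.single i 1) (hr : Pi.single i (1 : F) ᵥ* g.1 = Pi.single i 1)
    (s : SL(2, F)) : Commute (diagBlock g) (levAll (Pi.mulSingle i s)) := by
  have k1 : ∀ h : SpecialLinearGroup (Fin m) F, h.1 *ᵥ Pi.single i 1 = Pi.single i 1 →
      ∀ x : F, h.1 * single i i x = single i i x := by
    intro h e x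
    rw [single_eq_vecMulVec, Cfsg.Agent.Classical.mul_vecMulVec', mulVec_smul, e]
  have k2 : ∀ h : SpecialLinearGroup (Fin m) F, Pi.single i (1 : F) ᵥ* h.1 = Pi.single i 1 →
      ∀ x : F, single i i x * h.1 = single i i x := by
    intro h e x
    rw [single_eq_vecMulVec, Cfsg.Agent.Classical.vecMulVec_mul', e]
  have hc' : (invT g).1 *ᵥ Pi.single i 1 = Pi.single i 1 := by
    rw [invT_coe, mulVec_transpose]; exact vecMul_inv hr
  have hr' : Pi.single i (1 : F) ᵥ* (invT g).1 = Pi.single i 1 := by
    rw [invT_coe, vecMul_transpose]; exact mulVec_inv hc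
  apply Subtype.ext
  show (diagBlock g).1 * _ = _ * (diagBlock g).1
  rw [diagBlock_coe, levAll_coe, mulSingle_entry, mulSingle_entry, mulSingle_entry, mulSingle_entry,
    fromBlocks_multiply, fromBlocks_multiply]
  congr 1 <;>
    simp [mul_add, add_mul, k1 g hc, k1 (invT g) hc', k2 g hr, k2 (invT g) hr']

variable [Fintype F] [hm : Fact (3 ≤ m)]

/-- The map to the symplectic group restricts correctly to both factors. -/
structure Model {P : Type v} [Group P] (σ : P →* Sp F m) (φ : SpecialLinearGroup (Fin m) F →* P)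
    (ψ : SL(2, F) →* P) : Prop where
  /-- on the Levi factor -/
  phi : ∀ g, σ (φ g) = diagBlock g
  /-- on the long root factor -/
  psi : ∀ s, σ (ψ s) = levAll (Pi.mulSingle (i0 m) s)

theorem diag_single_conj (i : Fin m) (t : F) :
    ((gi i).1 : Matrix (Fin m) (Fin m) F) * single (i0 m) (i0 m) t * ((gi i).1)ᵀ = single i i t := by
  rw [single_eq_vecMulVec, single_eq_vecMulVec, Cfsg.Agent.Classical.mul_vecMulVec',
    Cfsg.Agent.Classical.vecMulVec_mul', mulVec_smul, vecMul_transpose]
  show vecMulVec (t • ((gi i).1 *ᵥ bv (i0 m))) ((gi i).1 *ᵥ bv (i0 m)) = _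
  rw [gi_bv]
  rfl

/-- Conjugation by `J`. -/
def conjJ : Sp F m →* Sp F m := (MulAut.conj (SymplecticGroup.symJ (Fin m) F)).toMonoidHom

theorem conjJ_diag (g : SpecialLinearGroup (Fin m) F) : conjJ (diagBlock g) = diagBlock (invT g) := by
  rw [conjJ, MulEquiv.coe_toMonoidHom, MulAut.conj_apply, mul_inv_eq_iff_eq_mul]
  apply Subtype.ext
  rw [Submonoid.coe_mul, Submonoid.coe_mul, SymplecticGroup.coe_J, diagBlock_coe, diagBlock_coe,
    invT_invT, J, fromBlocks_multiply, fromBlocks_multiply]
  simp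

theorem δ2_coe (s : SL(2, F)) :
    (δ2 s).1 = !![s.1 1 1, -s.1 1 0; -s.1 0 1, s.1 0 0] := by
  have e : δ2 s * wM = wM * s := by rw [δ2_apply, inv_mul_cancel_right]
  have hw : (wM⁻¹ : SL(2, F)).1 = !![0, -1; 1, 0] := by
    rw [Matrix.SpecialLinearGroup.coe_inv, adjugate_fin_two, wM_coe]
    simp
  rw [δ2_apply, Matrix.SpecialLinearGroup.coe_mul, Matrix.SpecialLinearGroup.coe_mul, hw, wM_coe]
  ext a b
  fin_cases a <;> fin_cases b <;>
    simp [Matrix.mul_apply, Matrix.vecMul, dotProduct, Fin.sum_univ_two]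

theorem conjJ_lev (f : Fin m → SL(2, F)) : conjJ (levAll f) = levAll fun i => δ2 (f i) := by
  rw [conjJ, MulEquiv.coe_toMonoidHom, MulAut.conj_apply, mul_inv_eq_iff_eq_mul]
  apply Subtype.ext
  rw [Submonoid.coe_mul, Submonoid.coe_mul, SymplecticGroup.coe_J, levAll_coe, levAll_coe,
    J, fromBlocks_multiply, fromBlocks_multiply]
  simp [δ2_coe, diagonal_neg]

namespace Model

variable {P : Type v} [Group P] {σ : P →* Sp F m} {φ : SpecialLinearGroup (Fin m) F →* P}
  {ψ : SL(2, F) →* P} {ν : Fˣ}

theorem dual (D : Model σ φ ψ) : Model (conjJ.comp σ) (φ.comp invT) (ψ.comp δ2) where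
  phi g := by
    simp only [MonoidHom.comp_apply, D.phi, conjJ_diag, invT_invT]
  psi s := by
    simp only [MonoidHom.comp_apply, D.psi, conjJ_lev]
    congr 1
    funext i
    by_cases hi : i = i0 m
    · subst hi; simp [δ2_δ2]
    · simp [hi]

theorem L_up (D : Model σ φ ψ) (v : Fin m → F) (t : F) :
    (σ (L φ ψ v t)).1 = upM (t • vecMulVec v v) := by
  by_cases hv : v = 0
  · simp [hv, L_zero_vec, upM_zero]
  classical
  have hh := move (F := F) hv
  rw [L, dif_pos hh, map_mul, map_mul, map_inv, D.phi, D.psi, diag_up (lev_uM _ _)]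
  congr 1
  rw [single_eq_vecMulVec, Cfsg.Agent.Classical.mul_vecMulVec', Cfsg.Agent.Classical.vecMulVec_mul',
    mulVec_smul, vecMul_transpose]
  show vecMulVec (t • (hh.choose.1 *ᵥ bv (i0 m))) (hh.choose.1 *ᵥ bv (i0 m)) = _
  rw [hh.choose_spec, smul_vecMulVec]

theorem M_up (D : Model σ φ ψ) (u v : Fin m → F) (t : F) :
    (σ (M φ ψ u v t)).1 = upM (t • (vecMulVec u v + vecMulVec v u)) := by
  rw [M, map_mul, map_mul, map_inv, map_inv, Submonoid.coe_mul, Submonoid.coe_mul,
    coe_inv_up (D.L_up u t), coe_inv_up (D.L_up v t), D.L_up, upM_mul, upM_mul]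
  congr 1
  ext a b
  simp [vecMulVec_apply]
  ring

theorem K_lev (D : Model σ φ ψ) (i : Fin m) (s : SL(2, F)) :
    σ (K φ ψ i s) = levAll (Pi.mulSingle i s) := by
  refine DFunLike.congr_fun (f := σ.comp (K φ ψ i))
    (g := levAll.comp (MonoidHom.mulSingle (fun _ : Fin m => SL(2, F)) i)) ?_ s
  refine hom_ext2 (fun c => ?_) fun c => ?_
  · simp only [MonoidHom.comp_apply, MonoidHom.mulSingle_apply, ← ShortPres.uM_eq_tx]
    show σ (φ (gi i) * ψ (uM c) * (φ (gi i))⁻¹) = _
    rw [map_mul, map_mul, map_inv, D.phi, D.psi]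
    exact Subtype.ext ((diag_up (lev_uM _ _)).trans (by rw [diag_single_conj, lev_uM]))
  · simp only [MonoidHom.comp_apply, MonoidHom.mulSingle_apply]
    show σ (φ (gi i) * ψ _ * (φ (gi i))⁻¹) = _
    rw [show (tx (1 : Fin 2) 0 c : SL(2, F)) = δ2 (uM (-c)) by rw [δ2_uM, neg_neg]]
    have hJ : Function.Injective (conjJ (F := F) (m := m)) := (MulAut.conj _).injective
    apply hJ
    rw [map_mul σ, map_mul σ, map_inv σ, D.phi, D.psi, map_mul, map_mul, map_inv, conjJ_diag,
      conjJ_lev, conjJ_lev, invT_gi]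
    have e : ∀ j : Fin m, (fun r => δ2 ((Pi.mulSingle j (δ2 (uM (-c))) : Fin m → SL(2, F)) r)) =
        Pi.mulSingle j (uM (-c)) := fun j => by
      funext r
      by_cases hr : r = j
      · subst hr; simp [δ2_δ2]
      · simp [hr]
    rw [e, e]
    exact Subtype.ext ((diag_up (lev_uM _ _)).trans (by rw [diag_single_conj, lev_uM]))

theorem Kpi_lev (D : Model σ φ ψ) (S : Seed ν φ ψ) (f : Fin m → SL(2, F)) :
    σ (S.Kpi f) = levAll f := by
  refine DFunLike.congr_fun (f := σ.comp S.Kpi) (g := levAll) ?_ f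
  refine MonoidHom.pi_ext fun i s => ?_
  rw [MonoidHom.comp_apply, S.Kpi_single, D.K_lev]

end Model

theorem diagBlock_diagonal {g : SpecialLinearGroup (Fin m) F} {d : Fin m → Fˣ}
    (hg : IsMono g 1 d) : diagBlock g = levAll fun i => dM (d i) := by
  have hdg : ∀ {h : SpecialLinearGroup (Fin m) F} {e : Fin m → Fˣ}, IsMono h 1 e →
      h.1 = diagonal fun i => (e i : F) := fun {h e} he => by
    refine ext_of_mulVec_single fun j => ?_
    refine (he j).trans ?_
    funext r
    rw [mulVec_diagonal]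
    by_cases hr : r = j
    · subst hr; simp [bv]
    · simp [bv, hr]
  apply Subtype.ext
  rw [diagBlock_coe, levAll_coe, hdg hg, hdg hg.invT]
  simp [dM_coe]

theorem Half.map {P Q : Type*} [Group P] [Group Q] {ν : Fˣ}
    {φ : SpecialLinearGroup (Fin m) F →* P} {ψ : SL(2, F) →* P} (h : Half ν φ ψ) (f : P →* Q) :
    Half ν (f.comp φ) (f.comp ψ) where
  b := h.b.map f
  f := by
    have := congrArg f h.f
    simpa only [MonoidHom.comp_apply, map_mul, map_inv] using this
  e := by
    have := congrArg f h.e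
    simpa only [MonoidHom.comp_apply, map_mul, map_inv] using this

/-- The long root factor of the model. -/
noncomputable def psi0 : SL(2, F) →* Sp F m :=
  levAll.comp (MonoidHom.mulSingle (fun _ : Fin m => SL(2, F)) (i0 m))

theorem psi0_apply (s : SL(2, F)) : psi0 s = levAll (Pi.mulSingle (i0 m) s) := rfl

theorem model_id : Model (MonoidHom.id _) (diagBlock (F := F) (m := m)) psi0 :=
  ⟨fun _ => rfl, fun _ => rfl⟩

theorem single_entry (i p : Fin m) (s : SL(2, F)) (a b : Fin 2) :
    ((Pi.mulSingle i s : Fin m → SL(2, F)) p).1 a b =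
      if p = i then s.1 a b else if a = b then 1 else 0 := by
  by_cases hp : p = i
  · subst hp; simp
  · rw [Pi.mulSingle_eq_of_ne hp, if_neg hp, Matrix.SpecialLinearGroup.coe_one, one_apply]

theorem tx_entry {i j : Fin m} (h : i ≠ j) (t : F) (p q : Fin m) :
    (tx i j t : SpecialLinearGroup (Fin m) F).1 p q =
      (if p = q then 1 else 0) + if p = i ∧ q = j then t else 0 := by
  rw [tx_eq h, Matrix.SpecialLinearGroup.transvection_coe, Matrix.add_apply, one_apply, single_apply]
  simp only [eq_comm]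

theorem model_h (a : Fˣ) (t : F) :
    psi0 (dM a) * diagBlock (tx (i1 m) (i0 m) t) * (psi0 (dM a))⁻¹ =
      diagBlock (tx (i1 m) (i0 m) (((a⁻¹ : Fˣ) : F) * t)) := by
  rw [mul_inv_eq_iff_eq_mul]
  apply Subtype.ext
  rw [coe_mul', coe_mul', psi0_apply, levAll_coe, diagBlock_coe, diagBlock_coe, invT_tx h01.symm,
    invT_tx h01.symm, fromBlocks_multiply, fromBlocks_multiply]
  simp only [mul_zero, zero_mul, add_zero, zero_add]
  have e01 := (h01 (m := m))
  congr 1 <;> ext p q <;>
    simp only [diagonal_mul, mul_diagonal, single_entry, tx_entry e01, tx_entry e01.symm, dM_coe] <;>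
    simp only [of_apply, cons_val', cons_val_zero, cons_val_one, cons_val_fin_one, empty_val'] <;>
    split_ifs <;> simp_all <;> field_simp

theorem model_e :
    (psi0 wM * diagBlock (tx (i1 m) (i0 m) (-1 : F)) * (psi0 wM)⁻¹).1 =
      upM (single (i0 m) (i1 m) (1 : F) + single (i1 m) (i0 m) 1) := by
  have e : (psi0 wM * diagBlock (tx (i1 m) (i0 m) (-1 : F))).1 =
      upM (single (i0 m) (i1 m) (1 : F) + single (i1 m) (i0 m) 1) * (psi0 wM).1 := by
    rw [coe_mul', psi0_apply, levAll_coe, diagBlock_coe, invT_tx h01.symm, upM, fromBlocks_multiply,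
      fromBlocks_multiply]
    simp only [mul_zero, zero_mul, add_zero, zero_add, one_mul]
    have e01 := (h01 (m := m))
    congr 1
    all_goals ext p q
    all_goals
      simp only [diagonal_mul, mul_diagonal, single_entry, tx_entry e01, tx_entry e01.symm, wM_coe,
        Matrix.add_apply, single_apply, diagonal_apply]
    all_goals
      simp only [of_apply, cons_val', cons_val_zero, cons_val_one, cons_val_fin_one, empty_val']
    all_goals rcases eq_or_ne p (i0 m) with rfl | p0
    all_goals rcases eq_or_ne q (i0 m) with hq | q0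
    all_goals try subst hq
    all_goals simp [*, Ne.symm e01]
    all_goals split_ifs
    all_goals
      first
        | rfl
        | (exfalso; tauto)
        | simp
  rw [coe_mul', e, mul_assoc, ← coe_mul', mul_inv_cancel, coe_one', mul_one]

theorem model_K1 (s : SL(2, F)) :
    diagBlock (s01 : SpecialLinearGroup (Fin m) F) * psi0 s * (diagBlock s01)⁻¹ =
      levAll (Pi.mulSingle (i1 m) s) := by
  have hs : (gi (i1 m) : SpecialLinearGroup (Fin m) F) = s01 := by
    refine (gi_isMono (i1 m)).ext ?_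
    convert s01_isMono (F := F) (m := m) using 1
    simp [moveSign, h01.symm]
  rw [← hs]
  exact model_id.K_lev (i1 m) s

theorem model_half (ν : Fˣ) : Half ν (diagBlock (F := F) (m := m)) psi0 where
  b := by
    refine mul_inv_eq_iff_eq_mul.1 (Subtype.ext ?_)
    rw [psi0_apply, diag_up (lev_uM _ _), lev_uM]
    congr 1
    rw [single_eq_vecMulVec, Cfsg.Agent.Classical.mul_vecMulVec',
      Cfsg.Agent.Classical.vecMulVec_mul', vecMul_transpose, mulVec_smul, tx_fix h01 h01]
  f := by rw [model_h, mul_one]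
  e := by
    rw [model_K1]
    apply Subtype.ext
    rw [coe_mul' (psi0 (uM 1) * _) (levAll _), coe_mul' (psi0 (uM 1)), model_e, psi0_apply,
      diag_up (lev_uM _ _), lev_uM, lev_uM, upM_mul, upM_mul]
    congr 1
    have h0 : (tx (i1 m) (i0 m) (1 : F)).1 *ᵥ bv (i0 m) = bv (i0 m) + bv (i1 m) := by
      rw [bv, tx_mulVec_single h01.symm, if_pos rfl, mul_one]; rfl
    simp only [single_eq_vecMulVec, Cfsg.Agent.Classical.mul_vecMulVec',
      Cfsg.Agent.Classical.vecMulVec_mul', vecMul_transpose, one_smul]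
    rw [← bv, ← bv, h0]
    simp only [add_vecMulVec, vecMulVec_add]
    abel

theorem model_tor (ν : Fˣ) :
    diagBlock (emb (h01 (m := m)) (dM ν)) =
      psi0 (dM ν) * (diagBlock s01 * psi0 (dM ν) * (diagBlock (s01 : SpecialLinearGroup (Fin m) F))⁻¹)⁻¹ := by
  rw [model_K1, psi0_apply, ← map_inv, ← map_mul]
  have hm' : IsMono (emb (h01 (m := m)) (dM ν)) 1
      (Function.update (Function.update 1 (i1 m) ν⁻¹) (i0 m) ν) := fun j => by
    rw [ShortPres.emb_dM_coe]
    funext r
    rw [mulVec_diagonal]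
    by_cases hr : r = j
    · subst hr
      by_cases r0 : r = i0 m
      · subst r0; simp [bv, dd]
      · by_cases r1 : r = i1 m
        · subst r1; simp [bv, dd, r0]
        · simp [bv, dd, r0, r1]
    · simp [bv, hr]
  rw [diagBlock_diagonal hm']
  congr 1
  funext r
  have hdinv : (dM ν : SL(2, F))⁻¹ = dM ν⁻¹ := (map_inv dHom ν).symm
  by_cases r0 : r = i0 m
  · subst r0; simp [h01]
  · by_cases r1 : r = i1 m
    · subst r1; simp [r0, hdinv]
    · simp [r0, r1, show dM (1 : Fˣ) = 1 from map_one dHom]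

/-- The seed relations hold in the symplectic group. -/
theorem seed_model {ν : Fˣ} (hν : orderOf ν = Fintype.card F - 1) :
    Seed ν (diagBlock (F := F) (m := m)) psi0 where
  gen := hν
  stab g hc hr s := by
    rw [psi0_apply]
    exact lev_commute hc hr s
  lev s t := by
    rw [model_K1, psi0_apply]
    have hc : Commute (Pi.mulSingle (i0 m) s : Fin m → SL(2, F)) (Pi.mulSingle (i1 m) t) :=
      Pi.mulSingle_commute (f := fun _ : Fin m => SL(2, F)) h01 s t
    exact hc.map (levAll (F := F) (m := m))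
  tor := model_tor ν
  half := model_half ν
  halfd := by
    have h := (model_half (F := F) (m := m) ν).map conjJ
    have e1 : conjJ.comp (diagBlock (F := F) (m := m)) = diagBlock.comp invT :=
      MonoidHom.ext fun g => conjJ_diag g
    have e2 : conjJ.comp (psi0 (F := F) (m := m)) = psi0.comp δ2 := MonoidHom.ext fun s => by
      simp only [MonoidHom.comp_apply, psi0_apply, conjJ_lev]
      congr 1
      funext r
      by_cases hr : r = i0 m
      · subst hr; simp
      · simp [hr]
    rwa [e1, e2] at h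

end Cfsg.Agent.SpShortPres
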