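import Cfsg.Agent.SpShortPres.Levels

/-!
# Root subgroups and the action of monomial elements on them
-/

set_option autoImplicit false

namespace Cfsg.Agent.SpShortPres

open Matrix Cfsg.Agent.SL2Pres Cfsg.Agent.SLMult Cfsg.Agent.CurtisTitsA
open scoped MatrixGroups commutatorElement

universe u v

variable {F : Type u} [Field F] [Fintype F] {m : ℕ} [hm : Fact (3 ≤ m)] {P : Type v} [Group P]

/-- Root elements, indexed by pairs of coordinates. -/
noncomputable def x (φ : SpecialLinearGroup (Fin m) F →* P) (ψ : SL(2, F) →* P) :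
    Fin m ⊕ Fin m → Fin m ⊕ Fin m → F → P
  | .inl i, .inl j, t => φ (tx i j t)
  | .inr i, .inr j, t => φ (tx j i (-t))
  | .inl i, .inr j, t => if i = j then L φ ψ (bv i) t else M φ ψ (bv i) (bv j) t
  | .inr i, .inl j, t => if i = j then L (φ.comp invT) (ψ.comp δ2) (bv i) (-t)
      else M (φ.comp invT) (ψ.comp δ2) (bv i) (bv j) (-t)

/-- `n` permutes the root subgroups along `π`. -/
def Maps (φ : SpecialLinearGroup (Fin m) F →* P) (ψ : SL(2, F) →* P) (n : P)
    (π : Equiv.Perm (Fin m ⊕ Fin m)) : Prop :=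
  ∀ p q, p ≠ q → ∃ c : Fˣ, ∀ t, n * x φ ψ p q t * n⁻¹ = x φ ψ (π p) (π q) ((c : F) * t)

theorem mono_conj_tx {g : SpecialLinearGroup (Fin m) F} {σ : Equiv.Perm (Fin m)} {d : Fin m → Fˣ}
    (hg : IsMono g σ d) {i j : Fin m} (h : i ≠ j) (t : F) :
    g * tx i j t * g⁻¹ = tx (σ i) (σ j) ((d i : F) * ((d j)⁻¹ : Fˣ) * t) := by
  rw [mul_inv_eq_iff_eq_mul]
  refine mulVec_single_inj fun k => ?_
  have hh : σ i ≠ σ j := σ.injective.ne h
  rw [Matrix.SpecialLinearGroup.coe_mul, Matrix.SpecialLinearGroup.coe_mul, ← mulVec_mulVec,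
    ← mulVec_mulVec, tx_mulVec_single h]
  show _ = _ *ᵥ (g.1 *ᵥ bv k)
  rw [hg k, mulVec_smul, bv, tx_mulVec_single hh, mulVec_add, smul_add]
  congr 1
  · exact (hg k).trans rfl
  by_cases hk : k = j
  · subst hk
    rw [if_pos rfl, if_pos rfl, show Pi.single i (t * 1) = t • (bv i : Fin m → F) by
      rw [bv, ← Pi.single_smul, smul_eq_mul], mulVec_smul, hg i, smul_smul, bv, ← Pi.single_smul,
      ← Pi.single_smul]
    congr 1
    simp only [smul_eq_mul, mul_one]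
    calc t * (d i : F) = (d i : F) * ((d k : F) * ((d k)⁻¹ : Fˣ)) * t := by
          rw [Units.mul_inv, mul_one, mul_comm]
      _ = _ := by ring
  · rw [if_neg hk, if_neg (σ.injective.ne hk), mulVec_zero, smul_zero]

theorem swap_map {α β : Type*} (f : α → β) (g : α → β) (h : f = g) (p : α ⊕ α) :
    (Sum.map f g p).swap = Sum.map f g p.swap := by
  subst h; cases p <;> rfl

namespace Seed

variable {ν : Fˣ} {φ : SpecialLinearGroup (Fin m) F →* P} {ψ : SL(2, F) →* P}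

theorem x_add (S : Seed ν φ ψ) (p q : Fin m ⊕ Fin m) (s t : F) :
    x φ ψ p q (s + t) = x φ ψ p q s * x φ ψ p q t := by
  have htx : ∀ i j : Fin m, ∀ a b : F,
      φ (tx i j (a + b)) = φ (tx i j a) * φ (tx i j b) := fun i j a b => by
    rcases eq_or_ne i j with h | h
    · simp [tx, h]
    · rw [tx_add h, map_mul]
  rcases p with i | i <;> rcases q with j | j <;> simp only [x]
  · exact htx i j s t
  · split
    · exact S.L_add _ s t
    · exact S.M_add _ _ s t
  · split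
    · rw [neg_add, S.dual.L_add]
    · rw [neg_add, S.dual.M_add]
  · rw [neg_add, htx]

theorem x_zero (S : Seed ν φ ψ) (p q : Fin m ⊕ Fin m) : x φ ψ p q 0 = 1 := by
  have h := S.x_add p q 0 0
  rw [add_zero] at h
  exact mul_left_cancel (h.symm.trans (mul_one _).symm)

/-- The root elements of the dual pair. -/
theorem x_dual (_S : Seed ν φ ψ) (p q : Fin m ⊕ Fin m) :
    ∃ c : Fˣ, ∀ t, x (φ.comp invT) (ψ.comp δ2) p q t = x φ ψ p.swap q.swap ((c : F) * t) := by
  have e1 : (φ.comp (invT (F := F) (m := m))).comp invT = φ :=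
    MonoidHom.ext fun g => by simp [invT_invT]
  have e2 : (ψ.comp (δ2 (F := F))).comp δ2 = ψ := MonoidHom.ext fun s => by simp [δ2_δ2]
  rcases p with i | i <;> rcases q with j | j
  · refine ⟨1, fun t => ?_⟩
    rcases eq_or_ne i j with h | h
    · subst h; simp [x, tx]
    · simp [x, invT_tx h]
  · exact ⟨-1, fun t => by simp [x]⟩
  · refine ⟨-1, fun t => ?_⟩
    simp [x, e1, e2]
  · refine ⟨1, fun t => ?_⟩
    rcases eq_or_ne i j with h | h
    · subst h; simp [x, tx]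
    · simp [x, invT_tx h.symm]

/-- The negative half follows from the positive half of the dual pair. -/
theorem maps_of_inl (S : Seed ν φ ψ) {n : P} {π : Equiv.Perm (Fin m ⊕ Fin m)}
    (hπ : ∀ p, π p.swap = (π p).swap)
    (h1 : ∀ i q, Sum.inl i ≠ q → ∃ c : Fˣ, ∀ t,
      n * x φ ψ (.inl i) q t * n⁻¹ = x φ ψ (π (.inl i)) (π q) ((c : F) * t))
    (h2 : ∀ i q, Sum.inl i ≠ q → ∃ c : Fˣ, ∀ t,
      n * x (φ.comp invT) (ψ.comp δ2) (.inl i) q t * n⁻¹ =
        x (φ.comp invT) (ψ.comp δ2) (π (.inl i)) (π q) ((c : F) * t)) :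
    Maps φ ψ n π := by
  intro p q hpq
  rcases p with i | i
  · exact h1 i q hpq
  have hne : Sum.inl i ≠ q.swap := fun e => hpq (by rw [← q.swap_swap, ← e]; rfl)
  obtain ⟨c, hc⟩ := h2 i q.swap hne
  obtain ⟨a, ha⟩ := S.x_dual (.inl i) q.swap
  obtain ⟨b, hb⟩ := S.x_dual (π (.inl i)) (π q.swap)
  refine ⟨b * c * a⁻¹, fun t => ?_⟩
  have h := hc (((a⁻¹ : Fˣ) : F) * t)
  rw [ha, hb] at h
  simp only [Sum.swap_inl, Sum.swap_swap] at h
  rw [← mul_assoc, Units.mul_inv, one_mul, ← hπ, ← hπ, Sum.swap_inl, Sum.swap_swap] at h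
  rw [h]
  congr 1
  rw [Units.val_mul, Units.val_mul]
  ring

theorem inl_mono (S : Seed ν φ ψ) {g : SpecialLinearGroup (Fin m) F} {σ : Equiv.Perm (Fin m)}
    {d : Fin m → Fˣ} (hg : IsMono g σ d) (i : Fin m) (q : Fin m ⊕ Fin m) (hq : Sum.inl i ≠ q) :
    ∃ c : Fˣ, ∀ t, φ g * x φ ψ (.inl i) q t * (φ g)⁻¹ =
      x φ ψ (Equiv.sumCongr σ σ (.inl i)) (Equiv.sumCongr σ σ q) ((c : F) * t) := by
  rcases q with j | j
  · have hij : i ≠ j := fun e => hq (by rw [e])
    refine ⟨d i * (d j)⁻¹, fun t => ?_⟩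
    simp only [x, Equiv.sumCongr_apply, Sum.map_inl]
    rw [← map_inv, ← map_mul, ← map_mul, mono_conj_tx hg hij, Units.val_mul]
  · by_cases hij : i = j
    · subst hij
      refine ⟨d i ^ 2, fun t => ?_⟩
      simp only [x, Equiv.sumCongr_apply, Sum.map_inl, Sum.map_inr, if_pos]
      rw [S.equivariant, hg i, S.L_smul, Units.val_pow_eq_pow_val]
    · refine ⟨d i * d j, fun t => ?_⟩
      simp only [x, Equiv.sumCongr_apply, Sum.map_inl, Sum.map_inr, if_neg hij,
        if_neg (σ.injective.ne hij)]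
      rw [S.M_equivariant, hg i, hg j, S.M_scale (bv_li (σ.injective.ne hij)), Units.val_mul]

/-- Monomial elements of the Levi factor permute the root subgroups. -/
theorem maps_mono (S : Seed ν φ ψ) {g : SpecialLinearGroup (Fin m) F} {σ : Equiv.Perm (Fin m)}
    {d : Fin m → Fˣ} (hg : IsMono g σ d) : Maps φ ψ (φ g) (Equiv.sumCongr σ σ) := by
  refine S.maps_of_inl (fun p => by cases p <;> rfl) (S.inl_mono hg) fun i q hq => ?_
  obtain ⟨c, hc⟩ := S.dual.inl_mono hg.invT i q hq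
  refine ⟨c, fun t => ?_⟩
  have := hc t
  rwa [MonoidHom.comp_apply, invT_invT] at this

theorem psi_w_commute_L (S : Seed ν φ ψ) {i : Fin m} (hi : i ≠ i0 m) (s : SL(2, F)) (t : F) :
    Commute (ψ s) (L φ ψ (bv i) t) := by
  rw [S.L_bv, ← S.K_zero]
  exact S.K_commute (Ne.symm hi) _ _

theorem psi_w_commute_M (S : Seed ν φ ψ) {i j : Fin m} (hij : i ≠ j) (hi : i ≠ i0 m) (hj : j ≠ i0 m)
    (s : SL(2, F)) (t : F) : Commute (ψ s) (M φ ψ (bv i) (bv j) t) := by
  have h1 : Commute (ψ s) (L φ ψ (bv i + bv j) t) := by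
    have e : (tx j i (1 : F)).1 *ᵥ bv i = bv i + bv j := by
      rw [bv, tx_mulVec_single hij.symm, if_pos rfl, mul_one]; rfl
    rw [← e, ← S.equivariant]
    have hc := (S.stab_tx hij.symm hj hi (1 : F) s).symm
    exact (hc.mul_right (S.psi_w_commute_L hi s t)).mul_right hc.inv_right
  exact (h1.mul_right (S.psi_w_commute_L hi s t).inv_right).mul_right
    (S.psi_w_commute_L hj s t).inv_right

theorem X_j0 (S : Seed ν φ ψ) {j : Fin m} (hj : j ≠ i0 m) :
    ∃ g : SpecialLinearGroup (Fin m) F, (∀ s, Commute (φ g) (ψ s)) ∧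
      (∀ t, g * tx (i1 m) (i0 m) t * g⁻¹ = tx j (i0 m) t) ∧
      g.1 *ᵥ bv (i0 m) = bv (i0 m) ∧ g.1 *ᵥ bv (i1 m) = bv j := by
  obtain ⟨g, σ, d, hg, h0, h1, d0, d1⟩ := exists_mono_pair (F := F) (Ne.symm hj)
  refine ⟨g, fun s => ?_, fun t => ?_, by rw [hg, h0, d0]; simp, by rw [hg, h1, d1]; simp⟩
  · have := S.mono_fix hg h0 s
    rw [d0, twist_one, mul_inv_eq_iff_eq_mul] at this
    exact this
  · rw [mono_conj_tx hg h01.symm, h0, h1, d0, d1]
    simp

theorem M0_eq (S : Seed ν φ ψ) {j : Fin m} (hj : j ≠ i0 m) (t : F) :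
    M φ ψ (bv (i0 m)) (bv j) t = ψ wM * φ (tx j (i0 m) (-t)) * (ψ wM)⁻¹ := by
  obtain ⟨g, hc, hx, h0, h1⟩ := S.X_j0 hj
  rw [← h0, ← h1, ← S.M_equivariant, S.M01_eq, ← hx, map_mul, map_mul, map_inv]
  calc _ = (φ g * ψ wM) * φ (tx (i1 m) (i0 m) (-t)) * (φ g * ψ wM)⁻¹ := by group
    _ = _ := by rw [(hc wM).eq]; group

theorem h_Xj0 (S : Seed ν φ ψ) {j : Fin m} (hj : j ≠ i0 m) (a : Fˣ) (t : F) :
    ψ (dM a) * φ (tx j (i0 m) t) * (ψ (dM a))⁻¹ = φ (tx j (i0 m) (((a⁻¹ : Fˣ) : F) * t)) := by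
  obtain ⟨g, hc, hx, -, -⟩ := S.X_j0 hj
  rw [← hx, ← hx, map_mul, map_mul, map_mul, map_mul, map_inv, ← S.h_X10 a t]
  calc _ = (ψ (dM a) * φ g) * φ (tx (i1 m) (i0 m) t) * (ψ (dM a) * φ g)⁻¹ := by group
    _ = _ := by rw [← (hc (dM a)).eq]; group

theorem w_Xj0 (S : Seed ν φ ψ) {j : Fin m} (hj : j ≠ i0 m) (t : F) :
    ψ wM * φ (tx j (i0 m) t) * (ψ wM)⁻¹ = M φ ψ (bv (i0 m)) (bv j) (-t) := by
  rw [S.M0_eq hj, neg_neg]

theorem w_M0 (S : Seed ν φ ψ) {j : Fin m} (hj : j ≠ i0 m) (t : F) :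
    ψ wM * M φ ψ (bv (i0 m)) (bv j) t * (ψ wM)⁻¹ = φ (tx j (i0 m) t) := by
  rw [S.M0_eq hj]
  calc _ = ψ (wM * wM) * φ (tx j (i0 m) (-t)) * (ψ (wM * wM))⁻¹ := by rw [map_mul]; group
    _ = _ := by rw [wM_sq, S.h_Xj0 hj]; simp

theorem inl_wM (S : Seed ν φ ψ) (i : Fin m) (q : Fin m ⊕ Fin m) (hq : Sum.inl i ≠ q) :
    ∃ c : Fˣ, ∀ t, ψ wM * x φ ψ (.inl i) q t * (ψ wM)⁻¹ =
      x φ ψ (Equiv.swap (.inl (i0 m)) (.inr (i0 m)) (.inl i))
        (Equiv.swap (.inl (i0 m)) (.inr (i0 m)) q) ((c : F) * t) := by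
  set π : Equiv.Perm (Fin m ⊕ Fin m) := Equiv.swap (.inl (i0 m)) (.inr (i0 m))
  have hl : π (.inl (i0 m)) = .inr (i0 m) := Equiv.swap_apply_left _ _
  have hr : π (.inr (i0 m)) = .inl (i0 m) := Equiv.swap_apply_right _ _
  have hl' : ∀ k, k ≠ i0 m → π (.inl k) = .inl k := fun k h =>
    Equiv.swap_apply_of_ne_of_ne (by simpa using h) (by simp)
  have hr' : ∀ k, k ≠ i0 m → π (.inr k) = .inr k := fun k h =>
    Equiv.swap_apply_of_ne_of_ne (by simp) (by simpa using h)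
  have fix : ∀ {X : P}, Commute (ψ wM) X → ψ wM * X * (ψ wM)⁻¹ = X := fun h => by
    rw [h.eq, mul_inv_cancel_right]
  rcases q with j | j
  · have hij : i ≠ j := fun e => hq (by rw [e])
    by_cases hi : i = i0 m
    · subst hi
      refine ⟨-1, fun t => ?_⟩
      rw [hl, hl' j hij.symm]
      simp only [x, if_neg hij]
      have h := S.dual.w_Xj0 hij.symm (-t)
      rw [MonoidHom.comp_apply, MonoidHom.comp_apply, δ2_wM, invT_tx hij.symm, neg_neg] at h
      rw [h]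
      simp
    · by_cases hj : j = i0 m
      · subst hj
        refine ⟨-1, fun t => ?_⟩
        rw [hl, hl' i hi]
        simp only [x, if_neg hi]
        rw [S.w_Xj0 hi, S.M_comm_vec]
        simp
      · refine ⟨1, fun t => ?_⟩
        rw [hl' i hi, hl' j hj, Units.val_one, one_mul]
        simp only [x]
        exact fix (S.stab_tx hij hi hj t _).symm
  · by_cases hij : i = j
    · subst hij
      by_cases hi : i = i0 m
      · subst hi
        refine ⟨-1, fun t => ?_⟩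
        rw [hl, hr]
        simp only [x, if_pos]
        rw [S.L_bv0, S.dual.L_bv0, MonoidHom.comp_apply, ← map_inv, ← map_mul, ← map_mul, ← δ2_apply]
        simp
      · refine ⟨1, fun t => ?_⟩
        rw [hl' i hi, hr' i hi, Units.val_one, one_mul]
        simp only [x, if_pos]
        exact fix (S.psi_w_commute_L hi _ t)
    · by_cases hi : i = i0 m
      · subst hi
        refine ⟨-1, fun t => ?_⟩
        rw [hl, hr' j (Ne.symm hij)]
        simp only [x, if_neg hij]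
        rw [S.w_M0 (Ne.symm hij)]
        simp
      · by_cases hj : j = i0 m
        · subst hj
          refine ⟨1, fun t => ?_⟩
          rw [hl' i hi, hr]
          simp only [x, if_neg hij]
          rw [S.M_comm_vec, S.w_M0 hi]
          simp
        · refine ⟨1, fun t => ?_⟩
          rw [hl' i hi, hr' j hj, Units.val_one, one_mul]
          simp only [x, if_neg hij]
          exact fix (S.psi_w_commute_M hij hi hj _ t)

/-- The long Weyl element permutes the root subgroups. -/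
theorem maps_wM (S : Seed ν φ ψ) :
    Maps φ ψ (ψ wM) (Equiv.swap (.inl (i0 m)) (.inr (i0 m))) := by
  refine S.maps_of_inl (fun p => ?_) S.inl_wM fun i q hq => ?_
  · rcases p with k | k <;> by_cases hk : k = i0 m <;> simp [hk, Equiv.swap_apply_of_ne_of_ne]
  · obtain ⟨c, hc⟩ := S.dual.inl_wM i q hq
    refine ⟨c, fun t => ?_⟩
    have := hc t
    rwa [MonoidHom.comp_apply, δ2_wM] at this

end Seed

end Cfsg.Agent.SpShortPres
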