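import Cfsg.Agent.SpShortPres.Basic

/-!
# The seed relations between `SL(m, F)` and a long root `SL(2, F)` in the symplectic group
-/

set_option autoImplicit false

namespace Cfsg.Agent.SpShortPres

open Matrix Cfsg.Agent.SL2Pres Cfsg.Agent.SLMult Cfsg.Agent.CurtisTitsA
open scoped MatrixGroups commutatorElement

universe u v

variable {F : Type u} [Field F] [Fintype F] {m : ℕ} [hm : Fact (3 ≤ m)]

/-- The first index. -/
def i0 (m : ℕ) [hm : Fact (3 ≤ m)] : Fin m := ⟨0, by have := hm.out; omega⟩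
/-- The second index. -/
def i1 (m : ℕ) [hm : Fact (3 ≤ m)] : Fin m := ⟨1, by have := hm.out; omega⟩
/-- The third index. -/
def i2 (m : ℕ) [hm : Fact (3 ≤ m)] : Fin m := ⟨2, by have := hm.out; omega⟩

theorem h01 : i0 m ≠ i1 m := by simp [i0, i1]
theorem h02 : i0 m ≠ i2 m := by simp [i0, i2]
theorem h12 : i1 m ≠ i2 m := by simp [i1, i2]

/-- The monomial element carrying the first basis vector to the second. -/
noncomputable def s01 : SpecialLinearGroup (Fin m) F := emb h01 wM⁻¹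

theorem invT_s01 : invT (s01 : SpecialLinearGroup (Fin m) F) = s01 := by
  rw [s01, invT_emb, map_inv, δ2_wM]

variable {P : Type v} [Group P]

/-- One half of the seed relations; the other half is the same for the dual pair. -/
structure Half (ν : Fˣ) (φ : SpecialLinearGroup (Fin m) F →* P) (ψ : SL(2, F) →* P) : Prop where
  /-- a short root element fixing the long one -/
  b : Commute (φ (tx (i0 m) (i1 m) 1)) (ψ (uM 1))
  /-- the torus of the long root on a short root element -/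
  f : ψ (dM ν) * φ (tx (i1 m) (i0 m) 1) * (ψ (dM ν))⁻¹ = φ (tx (i1 m) (i0 m) ((ν⁻¹ : Fˣ) : F))
  /-- the image of a long root element under a short one -/
  e : φ (tx (i1 m) (i0 m) 1) * ψ (uM 1) * (φ (tx (i1 m) (i0 m) 1))⁻¹ =
    ψ (uM 1) * (ψ wM * φ (tx (i1 m) (i0 m) (-1)) * (ψ wM)⁻¹) * (φ s01 * ψ (uM 1) * (φ s01)⁻¹)

/-- The relations between the two factors. -/
structure Seed (ν : Fˣ) (φ : SpecialLinearGroup (Fin m) F →* P) (ψ : SL(2, F) →* P) : Prop where
  /-- the parameter generates the units -/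
  gen : orderOf ν = Fintype.card F - 1
  /-- the complementary block commutes with the long root subgroup -/
  stab : ∀ g : SpecialLinearGroup (Fin m) F, g.1 *ᵥ Pi.single (i0 m) 1 = Pi.single (i0 m) 1 →
    Pi.single (i0 m) (1 : F) ᵥ* g.1 = Pi.single (i0 m) 1 → ∀ s, Commute (φ g) (ψ s)
  /-- long root subgroups at two levels commute -/
  lev : ∀ s t, Commute (ψ s) (φ s01 * ψ t * (φ s01)⁻¹)
  /-- the coroots agree -/
  tor : φ (emb h01 (dM ν)) = ψ (dM ν) * (φ s01 * ψ (dM ν) * (φ s01)⁻¹)⁻¹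
  /-- the relations for the positive side -/
  half : Half ν φ ψ
  /-- the relations for the negative side -/
  halfd : Half ν (φ.comp invT) (ψ.comp δ2)

namespace Seed

variable {ν : Fˣ} {φ : SpecialLinearGroup (Fin m) F →* P} {ψ : SL(2, F) →* P}

theorem exists_pow (S : Seed ν φ ψ) (a : Fˣ) : ∃ k : ℕ, a = ν ^ k := by
  obtain ⟨k, hk⟩ := exists_pow_eq S.gen a.ne_zero
  exact ⟨k, Units.ext (by rw [hk, Units.val_pow_eq_pow_val])⟩

/-- The dual pair satisfies the relations as well. -/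
theorem dual (S : Seed ν φ ψ) : Seed ν (φ.comp invT) (ψ.comp δ2) where
  gen := S.gen
  stab g hc hr s := by
    refine S.stab _ ?_ ?_ _
    · rw [invT_coe, mulVec_transpose]
      exact vecMul_inv hr
    · rw [invT_coe, vecMul_transpose]
      exact mulVec_inv hc
  lev s t := by
    simp only [MonoidHom.comp_apply, invT_s01]
    exact S.lev _ _
  tor := by
    simp only [MonoidHom.comp_apply, invT_emb, invT_s01, δ2_dM, map_inv, S.tor]
    have hc := S.lev (dM ν) (dM ν)
    rw [_root_.mul_inv_rev, inv_inv, ← (hc.inv_left).eq]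
    group
  half := S.halfd
  halfd := by
    have e1 : (φ.comp (invT (F := F) (m := m))).comp invT = φ := MonoidHom.ext fun g => by simp [invT_invT]
    have e2 : (ψ.comp (δ2 (F := F))).comp δ2 = ψ := MonoidHom.ext fun s => by simp [δ2_δ2]
    rw [e1, e2]
    exact S.half

theorem stab_tx (S : Seed ν φ ψ) {i j : Fin m} (hij : i ≠ j) (hi : i ≠ i0 m) (hj : j ≠ i0 m) (a : F)
    (s : SL(2, F)) : Commute (φ (tx i j a)) (ψ s) :=
  S.stab _ (tx_fix hij hj.symm a) (tx_fix_row hij hi.symm a) s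

theorem stab_emb12 (S : Seed ν φ ψ) (t s : SL(2, F)) : Commute (φ (emb h12 t)) (ψ s) := by
  refine ShortPres.commute_of_tx (φ.comp (emb h12)) _ (fun c => ?_) (fun c => ?_) t
  · rw [MonoidHom.comp_apply, emb_tx01]
    exact S.stab_tx h12 h01.symm h02.symm c s
  · rw [MonoidHom.comp_apply, emb_tx10]
    exact S.stab_tx h12.symm h02.symm h01.symm c s

/-- Conjugating by the complementary torus. -/
theorem h12_conj (x : Fˣ) (i j : Fin m) (hij : i ≠ j) (a b : F)
    (hab : dd (i1 m) (i2 m) (x : F) i * a = b * dd (i1 m) (i2 m) (x : F) j) :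
    φ (emb h12 (dM x)) * φ (tx i j a) * (φ (emb h12 (dM x)))⁻¹ = φ (tx i j b) := by
  rw [← map_mul, ← map_inv, ← map_mul, ShortPres.emb_dM_conj h12 x hij a b hab]

/-- The long torus on a short root element. -/
theorem h_X10 (S : Seed ν φ ψ) (a : Fˣ) (t : F) :
    ψ (dM a) * φ (tx (i1 m) (i0 m) t) * (ψ (dM a))⁻¹ =
      φ (tx (i1 m) (i0 m) (((a⁻¹ : Fˣ) : F) * t)) := by
  have step : ∀ t : F, ψ (dM ν) * φ (tx (i1 m) (i0 m) t) * (ψ (dM ν))⁻¹ =
      φ (tx (i1 m) (i0 m) (((ν⁻¹ : Fˣ) : F) * t)) := by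
    intro t
    rcases eq_or_ne t 0 with rfl | ht
    · simp [tx_zero]
    set x : Fˣ := Units.mk0 t ht
    have key : ∀ y : F, φ (emb h12 (dM x)) * φ (tx (i1 m) (i0 m) y) * (φ (emb h12 (dM x)))⁻¹ =
        φ (tx (i1 m) (i0 m) (t * y)) := fun y =>
      h12_conj x _ _ h01.symm _ _ (by simp [dd, x, h12, h01, h02])
    have hc := S.stab_emb12 (dM x) (dM ν)
    have k1 := key 1
    rw [mul_one] at k1
    rw [← k1, mul_comm _ t, ← key, ← S.half.f]
    calc _ = (ψ (dM ν) * φ (emb h12 (dM x))) * φ (tx (i1 m) (i0 m) 1) *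
          (ψ (dM ν) * φ (emb h12 (dM x)))⁻¹ := by group
      _ = _ := by rw [← hc.eq]; group
  obtain ⟨k, rfl⟩ := S.exists_pow a
  induction k generalizing t with
  | zero => simp [show dM (1 : Fˣ) = 1 from map_one dHom]
  | succ k ih =>
    rw [pow_succ', dM_mul, map_mul]
    calc _ = ψ (dM ν) * (ψ (dM (ν ^ k)) * φ (tx (i1 m) (i0 m) t) * (ψ (dM (ν ^ k)))⁻¹) *
          (ψ (dM ν))⁻¹ := by group
      _ = _ := by
        rw [ih, step, _root_.mul_inv_rev, Units.val_mul]
        congr 2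
        ring

/-- The long torus on the opposite short root element. -/
theorem h_X01 (S : Seed ν φ ψ) (a : Fˣ) (t : F) :
    ψ (dM a) * φ (tx (i0 m) (i1 m) t) * (ψ (dM a))⁻¹ = φ (tx (i0 m) (i1 m) ((a : F) * t)) := by
  have h := S.dual.h_X10 a⁻¹ (-t)
  simp only [MonoidHom.comp_apply, δ2_dM, invT_tx h01.symm, inv_inv, neg_neg, mul_neg] at h
  rwa [show (dM a⁻¹)⁻¹ = dM a by rw [show dM a⁻¹ = (dM a)⁻¹ from map_inv dHom a, inv_inv]] at h

theorem h01_eq (S : Seed ν φ ψ) (a : Fˣ) :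
    φ (emb h01 (dM a)) = ψ (dM a) * (φ s01 * ψ (dM a) * (φ s01)⁻¹)⁻¹ := by
  obtain ⟨k, rfl⟩ := S.exists_pow a
  rw [dM_pow, map_pow, map_pow, S.tor, (S.lev _ _).inv_right.mul_pow, map_pow, inv_pow,
    conj_pow]

/-- The stabiliser of the first line normalises the long root subgroup. -/
theorem h01_u (S : Seed ν φ ψ) (x : Fˣ) (a : F) :
    φ (emb h01 (dM x)) * ψ (uM a) * (φ (emb h01 (dM x)))⁻¹ = ψ (uM ((x : F) ^ 2 * a)) := by
  rw [S.h01_eq, ← dM_conj_uM, map_mul, map_mul, map_inv]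
  set K := φ s01 * ψ (dM x) * (φ s01)⁻¹
  have hc : Commute (ψ (uM a)) K := S.lev _ _
  calc _ = ψ (dM x) * (K⁻¹ * ψ (uM a)) * K * (ψ (dM x))⁻¹ := by group
    _ = _ := by rw [← hc.inv_right.eq]; group

theorem comm_X01 (S : Seed ν φ ψ) (b a : F) :
    Commute (φ (tx (i0 m) (i1 m) b)) (ψ (uM a)) := by
  have h1 : ∀ b : F, Commute (φ (tx (i0 m) (i1 m) b)) (ψ (uM 1)) := by
    intro b
    rcases eq_or_ne b 0 with rfl | hb
    · simp [tx_zero]
    set x : Fˣ := (Units.mk0 b hb)⁻¹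
    have e := h12_conj (φ := φ) x (i0 m) (i1 m) h01 1 b
      (by simp [dd, x, h12, h01, h02, hb])
    have hc := S.stab_emb12 (dM x) (uM 1)
    rw [← e]
    exact (hc.mul_left S.half.b).mul_left hc.inv_left
  have hsq : ∀ b c : F, Commute (φ (tx (i0 m) (i1 m) b)) (ψ (uM (c * c))) := by
    intro b c
    rcases eq_or_ne c 0 with rfl | hc
    · simp [uM_zero]
    set x : Fˣ := Units.mk0 c hc
    have := (h1 (((x⁻¹ : Fˣ) : F) * b)).map (MulAut.conj (ψ (dM x))).toMonoidHom
    simp only [MulEquiv.coe_toMonoidHom, MulAut.conj_apply] at this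
    rw [S.h_X01, ← map_inv, ← map_mul, ← map_mul, dM_conj_uM] at this
    simpa [x, sq, hc] using this
  let T : AddSubgroup F :=
    { carrier := {a | ∀ b, Commute (φ (tx (i0 m) (i1 m) b)) (ψ (uM a))}
      zero_mem' := fun b => by simp [uM_zero]
      add_mem' := fun {a c} ha hc b => by
        rw [uM_add, map_mul]; exact (ha b).mul_right (hc b)
      neg_mem' := fun {a} ha b => by
        rw [show uM (-a) = (uM a)⁻¹ from
          eq_inv_of_mul_eq_one_left (by rw [← uM_add, neg_add_cancel, uM_zero]), map_inv]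
        exact (ha b).inv_right }
  exact SLMult.Sys.squares_generate T (fun c b => hsq b c) a b

theorem fix (S : Seed ν φ ψ) {g : SpecialLinearGroup (Fin m) F}
    (hg : g.1 *ᵥ Pi.single (i0 m) 1 = Pi.single (i0 m) 1) (a : F) : Commute (φ g) (ψ (uM a)) := by
  have hm3 := hm.out
  have := fix_mem (k := i0 m) (by omega) ((Subgroup.centralizer {ψ (uM a)}).comap φ) ?_ hg
  · exact Subgroup.mem_centralizer_singleton_iff.mp this
  intro i j hij hj c
  rw [Subgroup.mem_comap, Subgroup.mem_centralizer_singleton_iff]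
  show Commute _ _
  rcases eq_or_ne i (i0 m) with rfl | hi
  · rcases eq_or_ne j (i1 m) with rfl | hj1
    · exact S.comm_X01 c a
    · rw [← mul_one c, ← tx_rel h01 hj1.symm hij c 1, map_commutatorElement, commutatorElement_def]
      have c2 := S.stab_tx hj1.symm h01.symm hj 1 (uM a)
      exact (((S.comm_X01 c a).mul_left c2).mul_left (S.comm_X01 c a).inv_left).mul_left c2.inv_left
  · exact S.stab_tx hij hi hj c _

/-- The long root element at the vector `g e₀` does not depend on `g`. -/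
theorem well_def (S : Seed ν φ ψ) {g g' : SpecialLinearGroup (Fin m) F}
    (h : g.1 *ᵥ Pi.single (i0 m) 1 = g'.1 *ᵥ Pi.single (i0 m) 1) (t : F) :
    φ g * ψ (uM t) * (φ g)⁻¹ = φ g' * ψ (uM t) * (φ g')⁻¹ := by
  have hc := S.fix (g := g'⁻¹ * g) (by
    rw [Matrix.SpecialLinearGroup.coe_mul, ← mulVec_mulVec, h, mulVec_inv rfl]) t
  calc _ = φ g' * (φ (g'⁻¹ * g) * ψ (uM t) * (φ (g'⁻¹ * g))⁻¹) * (φ g')⁻¹ := by
        rw [map_mul, map_inv]; group
    _ = _ := by rw [hc.eq, mul_inv_cancel_right]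

end Seed

end Cfsg.Agent.SpShortPres
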