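import Cfsg.Agent.SpShortPres.Roots
import Cfsg.Agent.SpShortPres.Model

/-!
# The unipotent radical of the Siegel parabolic and the positive part
-/

set_option autoImplicit false

namespace Cfsg.Agent.SpShortPres

open Matrix Cfsg.Agent.SL2Pres Cfsg.Agent.SLMult Cfsg.Agent.CurtisTitsA
open scoped MatrixGroups commutatorElement Pointwise

universe u v

variable {F : Type u} [Field F] [Fintype F] {m : ℕ} [hm : Fact (3 ≤ m)] {P : Type v} [Group P]

/-- The abelian radical. -/
noncomputable def UA (φ : SpecialLinearGroup (Fin m) F →* P) (ψ : SL(2, F) →* P) : Subgroup P :=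
  Subgroup.closure (Set.range fun z : Fin m × Fin m × F => x φ ψ (.inl z.1) (.inr z.2.1) z.2.2)

/-- Lower unitriangular matrices. -/
def Tlow (F : Type u) [Field F] [Fintype F] (m : ℕ) :
    Subgroup (SpecialLinearGroup (Fin m) F) where
  carrier := {g | ∀ r c : Fin m, r ≤ c → g.1 r c = if r = c then 1 else 0}
  one_mem' := fun r c _ => by rw [Matrix.SpecialLinearGroup.coe_one, one_apply]
  mul_mem' := fun {g h} hg hh r c hrc => by
    rw [Matrix.SpecialLinearGroup.coe_mul, Matrix.mul_apply,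
      Finset.sum_eq_single r (fun k _ hk => ?_) (by simp)]
    · rw [hg r r le_rfl, if_pos rfl, one_mul, hh r c hrc]
    · rcases lt_or_gt_of_ne hk with hk' | hk'
      · rw [hh k c (hk'.le.trans hrc), if_neg (hk'.trans_le hrc).ne, mul_zero]
      · rw [hg r k hk'.le, if_neg hk'.ne, zero_mul]
  inv_mem' := fun {g} hg => by
    classical
    let M : Submonoid (SpecialLinearGroup (Fin m) F) :=
      { carrier := {g | ∀ r c : Fin m, r ≤ c → g.1 r c = if r = c then 1 else 0}
        one_mem' := fun r c _ => by rw [Matrix.SpecialLinearGroup.coe_one, one_apply]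
        mul_mem' := fun {g h} hg hh r c hrc => by
          rw [Matrix.SpecialLinearGroup.coe_mul, Matrix.mul_apply,
            Finset.sum_eq_single r (fun k _ hk => ?_) (by simp)]
          · rw [hg r r le_rfl, if_pos rfl, one_mul, hh r c hrc]
          · rcases lt_or_gt_of_ne hk with hk' | hk'
            · rw [hh k c (hk'.le.trans hrc), if_neg (hk'.trans_le hrc).ne, mul_zero]
            · rw [hg r k hk'.le, if_neg hk'.ne, zero_mul] }
    have hfin : IsOfFinOrder g := isOfFinOrder_of_finite g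
    have : g⁻¹ = g ^ (orderOf g - 1) := inv_eq_of_mul_eq_one_right (by
      rw [← pow_succ', Nat.sub_add_cancel hfin.orderOf_pos, pow_orderOf_eq_one])
    show g⁻¹ ∈ M
    rw [this]
    exact pow_mem (show g ∈ M from hg) _

theorem tx_mem_Tlow {i j : Fin m} (h : j < i) (a : F) : tx i j a ∈ Tlow F m := fun r c hrc => by
  rw [tx_entry h.ne', if_neg (show ¬ (r = i ∧ c = j) from fun e => by
    rw [e.1, e.2] at hrc; exact absurd hrc (not_le.2 h)), add_zero]

theorem mul_mul_cancel_comm {G : Type*} [Group G] {A B C : G} (h1 : Commute A B) (h2 : Commute A C) :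
    A * B * C * A⁻¹ = B * C := by
  rw [mul_assoc A, (h1.mul_right h2).eq, mul_inv_cancel_right]

theorem rearr {G : Type*} [Group G] (H : Subgroup G) (hH : ∀ a ∈ H, ∀ b ∈ H, Commute a b)
    {A Mc M1 Lc L2 L1 : G} (h1 : A ∈ H) (h2 : Mc ∈ H) (h3 : M1 ∈ H) (h4 : Lc ∈ H) (h5 : L2 ∈ H)
    (h6 : L1 ∈ H) : A * (Mc * M1) * (Lc * (L2 * L1)) * (A * Mc * Lc)⁻¹ * L1⁻¹ = M1 * L2 := by
  let _ : CommGroup H :=
    { (inferInstance : Group H) with mul_comm := fun a b => Subtype.ext (hH a a.2 b b.2).eq }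
  have key : ∀ a b c d e f : H, a * (b * c) * (d * (e * f)) * (a * b * d)⁻¹ * f⁻¹ = c * e := by
    intro a b c d e f
    rw [show a * (b * c) * (d * (e * f)) = (c * e * f) * (a * b * d) by ac_rfl,
      mul_inv_cancel_right, mul_inv_cancel_right]
  exact congrArg Subtype.val (key ⟨_, h1⟩ ⟨_, h2⟩ ⟨_, h3⟩ ⟨_, h4⟩ ⟨_, h5⟩ ⟨_, h6⟩)

namespace Seed

variable {ν : Fˣ} {φ : SpecialLinearGroup (Fin m) F →* P} {ψ : SL(2, F) →* P}

theorem x_symm (S : Seed ν φ ψ) (i j : Fin m) (t : F) :
    x φ ψ (.inl i) (.inr j) t = x φ ψ (.inl j) (.inr i) t := by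
  by_cases h : i = j
  · subst h; rfl
  · simp only [x, if_neg h, if_neg (Ne.symm h)]
    exact S.M_comm_vec _ _ t

theorem UA_comm (S : Seed ν φ ψ) : ∀ a ∈ UA φ ψ, ∀ b ∈ UA φ ψ, Commute a b := by
  have hg : ∀ i j k l : Fin m, ∀ s t : F,
      Commute (x φ ψ (.inl i) (.inr j) s) (x φ ψ (.inl k) (.inr l) t) := by
    intro i j k l s t
    simp only [x]
    split <;> split
    · exact S.L_commute _ _ _ _
    · exact S.commute_L_M _ _ _ _ _
    · exact (S.commute_L_M _ _ _ _ _).symm
    · exact S.commute_M_M _ _ _ _ _ _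
  intro a ha b hb
  induction ha using Subgroup.closure_induction with
  | one => exact Commute.one_left _
  | mul p q _ _ hp hq => exact hp.mul_left hq
  | inv p _ hp => exact hp.inv_left
  | mem p hp =>
    obtain ⟨⟨i, j, s⟩, rfl⟩ := hp
    induction hb using Subgroup.closure_induction with
    | one => exact Commute.one_right _
    | mul p q _ _ hp hq => exact hp.mul_right hq
    | inv p _ hp => exact hp.inv_right
    | mem q hq =>
      obtain ⟨⟨k, l, t⟩, rfl⟩ := hq
      exact hg i j k l s t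

theorem L_bv_mem (_S : Seed ν φ ψ) (i : Fin m) (t : F) : L φ ψ (bv i) t ∈ UA φ ψ :=
  Subgroup.subset_closure ⟨(i, i, t), by simp [x]⟩

theorem M_bv_mem (_S : Seed ν φ ψ) {i j : Fin m} (h : i ≠ j) (t : F) :
    M φ ψ (bv i) (bv j) t ∈ UA φ ψ :=
  Subgroup.subset_closure ⟨(i, j, t), by simp [x, h]⟩

theorem M_move_self (S : Seed ν φ ψ) {a b : Fin m} (hab : a ≠ b) (c t : F) :
    M φ ψ (bv b + c • bv a) (bv a) t = M φ ψ (bv b) (bv a) t * L φ ψ (bv a) (2 * c * t) := by
  have hli := bv_li (F := F) hab.symm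
  have h1 := S.combo hli 1 (c + 1) t
  have h2 := S.combo hli 1 c t
  simp only [one_smul, one_pow, one_mul] at h1 h2
  rw [M, show bv b + c • bv a + bv a = bv b + (c + 1) • (bv a : Fin m → F) by
    rw [add_smul, one_smul, add_assoc], h1, h2, show (c + 1) * t = c * t + t by ring, S.M_add,
    show (c + 1) ^ 2 * t = c ^ 2 * t + (2 * c * t + t) by ring, S.L_add, S.L_add]
  exact rearr (UA φ ψ) S.UA_comm (S.L_bv_mem _ _) (S.M_bv_mem hab.symm _) (S.M_bv_mem hab.symm _)
    (S.L_bv_mem _ _) (S.L_bv_mem _ _) (S.L_bv_mem _ _)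

/-- The commutator of a Levi root element with a radical root element. -/
theorem comm_mem (S : Seed ν φ ψ) {a b : Fin m} (hab : a ≠ b) (c : F) (i j : Fin m) (t : F)
    (T : Subgroup P) (hT : ∀ k s, x φ ψ (.inl a) (.inr k) s ∈ T) :
    ⁅φ (tx a b c), x φ ψ (.inl i) (.inr j) t⁆ ∈ T := by
  have hfix : ∀ k, k ≠ b → (tx a b c).1 *ᵥ bv k = (bv k : Fin m → F) := fun k hk => tx_fix hab hk c
  have hmove : (tx a b c).1 *ᵥ bv b = bv b + c • (bv a : Fin m → F) := by
    rw [bv, tx_mulVec_single hab, if_pos rfl, bv, ← Pi.single_smul, smul_eq_mul]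
  have hA : ∀ s, L φ ψ (bv a) s ∈ T := fun s => by simpa [x] using hT a s
  have hM : ∀ k, a ≠ k → ∀ s, M φ ψ (bv a) (bv k) s ∈ T := fun k hk s => by simpa [x, hk] using hT k s
  have one : ∀ {i j : Fin m}, i = b → i ≠ j →
      ⁅φ (tx a b c), M φ ψ (bv i) (bv j) t⁆ ∈ T := by
    intro i j hi hij
    subst hi
    rw [commutatorElement_def, S.M_equivariant, hmove, hfix j hij.symm]
    by_cases hja : j = a
    · subst hja
      rw [S.M_move_self hab, (S.commute_L_M _ _ _ _ _).symm.eq, mul_inv_cancel_right]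
      exact hA _
    · rw [S.M_tri hab (Ne.symm hja) hij, (S.commute_M_M _ _ _ _ _ _).eq, mul_inv_cancel_right]
      exact hM j (Ne.symm hja) _
  by_cases hij : i = j
  · subst hij
    simp only [x, if_pos]
    rw [commutatorElement_def, S.equivariant]
    by_cases hi : i = b
    · subst hi
      have h2 := S.combo (bv_li (F := F) hab.symm) 1 c t
      simp only [one_smul, one_pow, one_mul] at h2
      rw [hmove, h2, mul_mul_cancel_comm (S.commute_L_M _ _ _ _ _) (S.L_commute _ _ _ _),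
        S.M_comm_vec]
      exact mul_mem (hM _ hab _) (hA _)
    · rw [hfix i hi, mul_inv_cancel]
      exact one_mem T
  · simp only [x, if_neg hij]
    by_cases hi : i = b
    · exact one hi hij
    · by_cases hj : j = b
      · rw [S.M_comm_vec]
        exact one hj (Ne.symm hij)
      · rw [commutatorElement_def, S.M_equivariant, hfix i hi, hfix j hj, mul_inv_cancel]
        exact one_mem T

theorem phi_normalizes (S : Seed ν φ ψ) (g : SpecialLinearGroup (Fin m) F) :
    φ g ∈ Subgroup.normalizer (UA φ ψ : Set P) := by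
  have h : ∀ (a b : Fin m), a ≠ b → ∀ c : F, ∀ y ∈ UA φ ψ,
      φ (tx a b c) * y * (φ (tx a b c))⁻¹ ∈ UA φ ψ := by
    intro a b hab c y hy
    have : UA φ ψ ≤ (UA φ ψ).comap (MulAut.conj (φ (tx a b c))).toMonoidHom := by
      rw [UA, Subgroup.closure_le]
      rintro _ ⟨⟨i, j, t⟩, rfl⟩
      show φ (tx a b c) * _ * _ ∈ UA φ ψ
      have hc := S.comm_mem hab c i j t (UA φ ψ) fun k s => Subgroup.subset_closure ⟨(a, k, s), rfl⟩
      have hx : x φ ψ (.inl i) (.inr j) t ∈ UA φ ψ := Subgroup.subset_closure ⟨(i, j, t), rfl⟩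
      have := mul_mem hc hx
      rwa [commutatorElement_def, inv_mul_cancel_right] at this
    exact this hy
  have htop : (⊤ : Subgroup (SpecialLinearGroup (Fin m) F)) ≤
      (Subgroup.normalizer (UA φ ψ : Set P)).comap φ := by
    refine (Classical.sl_eq_top_of_transvection _ fun a b hab c => ?_).ge
    rw [← tx_eq hab, Subgroup.mem_comap, Subgroup.mem_normalizer_iff]
    intro y
    refine ⟨h a b hab c y, fun hy => ?_⟩
    have := h a b hab (-c) _ hy
    rw [tx_neg hab, map_inv, inv_inv] at this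
    simpa [mul_assoc] using this
  exact htop (Subgroup.mem_top g)

/-- The positive part. -/
noncomputable def Ppos (_S : Seed ν φ ψ) : Subgroup P := UA φ ψ ⊔ (Tlow F m).map φ

theorem mem_Ppos (S : Seed ν φ ψ) {z : P} (hz : z ∈ S.Ppos) :
    ∃ u ∈ UA φ ψ, ∃ g ∈ Tlow F m, z = u * φ g := by
  have hle : (Tlow F m).map φ ≤ Subgroup.normalizer (UA φ ψ : Set P) := by
    rintro _ ⟨g, -, rfl⟩
    exact S.phi_normalizes g
  have : z ∈ ((UA φ ψ : Set P) * ((Tlow F m).map φ : Set P)) := by
    rw [← Subgroup.coe_mul_of_right_le_normalizer_left _ _ hle]; exact hz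
  obtain ⟨u, hu, _, ⟨g, hg, rfl⟩, e⟩ := this
  exact ⟨u, hu, g, hg, e.symm⟩

/-- The image of an element of the radical, and injectivity there. -/
theorem UA_model (S : Seed ν φ ψ) {σ : P →* Sp F m} (D : Model σ φ ψ) {u : P} (hu : u ∈ UA φ ψ) :
    ∃ Z : Matrix (Fin m) (Fin m) F, (σ u).1 = upM Z ∧ (Z = 0 → u = 1) := by
  classical
  let ι := {p : Fin m × Fin m // p.1 ≤ p.2}
  let gen : ι → (Multiplicative F →* P) := fun p =>
    { toFun := fun t => x φ ψ (.inl p.1.1) (.inr p.1.2) (Multiplicative.toAdd t)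
      map_one' := S.x_zero _ _
      map_mul' := fun s t => S.x_add _ _ _ _ }
  have hc : Pairwise fun p q => ∀ s t, Commute (gen p s) (gen q t) := fun p q _ s t =>
    S.UA_comm _ (Subgroup.subset_closure ⟨(p.1.1, p.1.2, _), rfl⟩) _
      (Subgroup.subset_closure ⟨(q.1.1, q.1.2, _), rfl⟩)
  let ρ : (ι → Multiplicative F) →* P := MonoidHom.noncommPiCoprod gen hc
  have hρ : ∀ p t, ρ (Pi.mulSingle p t) = gen p t := fun p t =>
    MonoidHom.noncommPiCoprod_mulSingle gen p t
  obtain ⟨f, rfl⟩ : u ∈ ρ.range := by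
    have hle : UA φ ψ ≤ ρ.range := by
      rw [UA, Subgroup.closure_le]
      rintro _ ⟨⟨i, j, t⟩, rfl⟩
      rcases le_total i j with h | h
      · exact ⟨_, hρ ⟨(i, j), h⟩ (Multiplicative.ofAdd t)⟩
      · exact ⟨_, (hρ ⟨(j, i), h⟩ (Multiplicative.ofAdd t)).trans (S.x_symm j i t)⟩
    exact hle hu
  let Z : (ι → Multiplicative F) → Matrix (Fin m) (Fin m) F := fun f => Matrix.of fun i j =>
    if h : i ≤ j then Multiplicative.toAdd (f ⟨(i, j), h⟩)
    else Multiplicative.toAdd (f ⟨(j, i), le_of_not_ge h⟩)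
  have hZadd : ∀ f g, Z (f * g) = Z f + Z g := fun f g => by
    ext i j
    simp only [Z, of_apply, Matrix.add_apply, Pi.mul_apply, toAdd_mul]
    split <;> rfl
  let h1 : (ι → Multiplicative F) →* Matrix (Fin m ⊕ Fin m) (Fin m ⊕ Fin m) F :=
    { toFun := fun f => upM (Z f)
      map_one' := by
        rw [show Z 1 = 0 by ext i j; simp [Z], upM_zero]
      map_mul' := fun f g => by rw [hZadd, upM_mul] }
  let h2 : (ι → Multiplicative F) →* Matrix (Fin m ⊕ Fin m) (Fin m ⊕ Fin m) F :=
    (Matrix.symplecticGroup (Fin m) F).subtype.comp (σ.comp ρ)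
  have he : h2 = h1 := by
    refine MonoidHom.pi_ext fun p t => ?_
    show (σ (ρ (Pi.mulSingle p t))).1 = upM (Z (Pi.mulSingle p t))
    rw [hρ]
    obtain ⟨⟨a, b⟩, hab⟩ := p
    set s := Multiplicative.toAdd t
    show (σ (x φ ψ (.inl a) (.inr b) s)).1 = _
    have hZ : ∀ i j, Z (Pi.mulSingle ⟨(a, b), hab⟩ t) i j =
        if (i = a ∧ j = b) ∨ (i = b ∧ j = a) then s else 0 := by
      intro i j
      simp only at hab
      have e : ∀ (x y : Fin m) (h : x ≤ y), ((⟨(x, y), h⟩ : ι) = ⟨(a, b), hab⟩) ↔ (x = a ∧ y = b) :=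
        fun x y h => ⟨fun e => ⟨congrArg (fun z : ι => z.1.1) e, congrArg (fun z : ι => z.1.2) e⟩,
          fun ⟨e1, e2⟩ => Subtype.ext (Prod.ext e1 e2)⟩
      simp only [Z, of_apply, Pi.mulSingle_apply, e]
      split_ifs <;> first
        | rfl
        | (simp_all [Fin.ext_iff] <;> omega)
    have hone : ∀ i j k l : Fin m,
        vecMulVec (bv i : Fin m → F) (bv j) k l = if k = i ∧ l = j then 1 else 0 := by
      intro i j k l
      simp only [vecMulVec_apply, bv, Pi.single_apply]
      split_ifs <;> simp_all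
    by_cases h : a = b
    · subst h
      simp only [x, if_pos]
      rw [D.L_up]
      congr 1
      ext i j
      rw [hZ, Matrix.smul_apply, hone, smul_eq_mul]
      by_cases h2 : i = a ∧ j = a <;> simp [h2]
    · simp only [x, if_neg h]
      rw [D.M_up]
      congr 1
      ext i j
      rw [hZ, Matrix.smul_apply, Matrix.add_apply, hone, hone, smul_eq_mul]
      by_cases h2 : i = a ∧ j = b
      · obtain ⟨rfl, rfl⟩ := h2
        simp [h, Ne.symm h]
      · by_cases h3 : i = b ∧ j = a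
        · simp [h2, h3, h, Ne.symm h]
        · simp [h2, h3]
  refine ⟨Z f, DFunLike.congr_fun he f, fun hz => ?_⟩
  have : f = 1 := by
    funext p
    obtain ⟨⟨a, b⟩, hab⟩ := p
    have e := congrFun (congrFun hz a) b
    simp only [Z, of_apply, dif_pos hab, Matrix.zero_apply] at e
    exact toAdd_eq_zero.1 e
  rw [this, map_one]

end Seed

end Cfsg.Agent.SpShortPres
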